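import Groth.Agent.AGFLib.Rosen.Main
import Groth.Agent.AGFLib.BorelExist
import Groth.Agent.GrpSchLib.FieldComp
import Groth.Agent.SGA1Q.SigmaFinite

/-! Reduction to the identity component. -/

set_option backward.isDefEq.respectTransparency false
set_option backward.isDefEq.respectTransparency.types false
set_option linter.style.haveILetI false

universe u

open CategoryTheory Limits AlgebraicGeometry MonoidalCategory CartesianMonoidalCategory MonObj GrpObj
open scoped MonObj

namespace Groth.Agent.AGFLib.Rosen

variable {k : Type u} [Field k]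

local notation "PT" => 𝟙_ (Over (Spec (CommRingCat.of k)))

/-- A connected group locally of finite type is irreducible. -/
theorem irreducibleSpace_of_connected {G : Over (Spec (CommRingCat.of k))} [GrpObj G] [LocallyOfFiniteType G.hom]
    [ConnectedSpace G.left] : IrreducibleSpace G.left := by
  obtain ⟨g, hg, hge⟩ := GrpSchLib.exists_isMaxPt (η[G].left (IsLocalRing.closedPoint k))
  have h := GrpSchLib.connectedComponent_one hg hge
  rw [PreconnectedSpace.connectedComponent_eq_univ] at h
  rw [irreducibleSpace_def, Set.top_eq_univ, h]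
  exact isIrreducible_singleton.closure

variable [IsAlgClosed k]

/-- A group covered by finitely many translates of a proper subgroup is proper. -/
theorem isProper_of_translates {G P : Over (Spec (CommRingCat.of k))} [GrpObj G] [LocallyOfFiniteType G.hom]
    [QuasiCompact G.hom] (i : P ⟶ G) [IsClosedImmersion i.left] [IsProper P.hom] (S : Set (PT ⟶ G))
    (hS : S.Finite) (hcov : ∀ p : PT ⟶ G, ∃ s ∈ S, ∃ q : PT ⟶ P, s * (q ≫ i) = p) : IsProper G.hom := by
  haveI := GrpSchLib.AntiAffine.isSeparated_grp G
  haveI := hS.to_subtype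
  let f : S → (P.left ⟶ G.left) := fun s => ((toUnit P ≫ (s : PT ⟶ G)) * i).left
  haveI hcl : ∀ s, IsClosedImmersion (f s) := fun s => by
    let L : G ⟶ G := (toUnit G ≫ (s : PT ⟶ G)) * 𝟙 G
    haveI : IsIso L := ⟨(toUnit G ≫ (s : PT ⟶ G)⁻¹) * 𝟙 G, by
      constructor <;>
        simp only [L, MonObj.comp_mul, ← Category.assoc, comp_toUnit, Category.comp_id, GrpObj.comp_inv,
          mul_inv_cancel_left, inv_mul_cancel_left]⟩
    have e : (toUnit P ≫ (s : PT ⟶ G)) * i = i ≫ L := by
      simp only [L, MonObj.comp_mul, Category.comp_id, ← Category.assoc, comp_toUnit]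
    show IsClosedImmersion ((toUnit P ≫ (s : PT ⟶ G)) * i).left
    rw [e, Over.comp_left]
    haveI : IsIso L.left := ((Over.forget _).mapIso (asIso L)).isIso_hom
    infer_instance
  let F : (∐ fun _ : S => P.left) ⟶ G.left := Sigma.desc f
  haveI : IsFinite F := SGA1Q.isFinite_sigmaDesc f fun s => inferInstance
  haveI : Surjective F := Surjective.sigmaDesc_of_union_range_eq_univ (by
    refine Gen.eq_univ_of_forall_cp (isClosed_iUnion_of_finite fun s => (f s).isClosedEmbedding.isClosed_range) fun p => ?_
    obtain ⟨s, hs, q, hq⟩ := hcov p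
    refine Set.mem_iUnion.mpr ⟨⟨s, hs⟩, Gen.cp q, ?_⟩
    show ((toUnit P ≫ s) * i).left (Gen.cp q) = Gen.cp p
    rw [← Gen.cp_comp, MonObj.comp_mul, ← Category.assoc, toUnit_unique (q ≫ toUnit P) (𝟙 _), Category.id_comp, hq])
  haveI : IsProper (F ≫ G.hom) := by
    have e : F ≫ G.hom = Sigma.desc (fun _ : S => 𝟙 P.left) ≫ P.hom := Sigma.hom_ext _ _ fun s => by
      simp only [F, Sigma.ι_desc_assoc, Category.id_comp]
      exact Over.w ((toUnit P ≫ (s : PT ⟶ G)) * i)
    haveI : IsFinite (Sigma.desc fun _ : S => 𝟙 P.left) := SGA1Q.isFinite_sigmaDesc _ fun _ => inferInstance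
    rw [e]; infer_instance
  haveI : UniversallyClosed G.hom := UniversallyClosed.of_comp_surjective F G.hom
  exact {}

/-- Rosenlicht's theorem. -/
theorem exists_affine_subgroup' {G : Over (Spec (CommRingCat.of k))} [GrpObj G] [Smooth G.hom] [QuasiCompact G.hom]
    (hG : ¬ IsProper G.hom) :
    ∃ (H : Over (Spec (CommRingCat.of k))) (_ : GrpObj H) (j : H ⟶ G), IsMonHom j ∧ IsClosedImmersion j.left ∧
      Smooth H.hom ∧ IsAffine H.left ∧ 0 < topologicalKrullDim ↥H.left := by
  obtain ⟨P, _, i, hi, hic, hPs, hPc, hPq, S, hS, hcov⟩ := BorelExist.exists_idComp (P := G)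
  haveI := hi; haveI := hic; haveI := hPs; haveI := hPc; haveI := hPq
  haveI : IrreducibleSpace P.left := irreducibleSpace_of_connected
  haveI : IsReduced P.left := GrpSchLib.isReduced_of_smooth_field P.hom
  haveI : IsIntegral P.left := isIntegral_of_irreducibleSpace_of_isReduced _
  obtain ⟨H, _, j, hj, hjc, hHs, hHa, hd⟩ := exists_affine_subgroup (G := P) fun hp => hG (by
    haveI := hp; exact isProper_of_translates i S hS hcov)
  haveI := hj; haveI := hjc
  exact ⟨H, inferInstance, j ≫ i, inferInstance, inferInstanceAs (IsClosedImmersion (j.left ≫ i.left)), hHs, hHa, hd⟩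

end Groth.Agent.AGFLib.Rosen
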