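import Groth.Agent.AGFLib.Rosen.Div

/-! The action on a model with an invariant divisor, and a positive-dimensional transporter between closed points. -/

set_option backward.isDefEq.respectTransparency false
set_option backward.isDefEq.respectTransparency.types false
set_option linter.style.haveILetI false
set_option maxHeartbeats 1000000

universe u

open CategoryTheory Limits AlgebraicGeometry MonoidalCategory CartesianMonoidalCategory MonObj IsLocalRing
open scoped MonObj

namespace Groth.Agent.AGFLib.Rosen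

open H23.RatPoint

variable {k : Type u} [Field k]

local notation "PT" => 𝟙_ (Over (Spec (CommRingCat.of k)))

/-- An open subset as a scheme over the field. -/
noncomputable abbrev opO {T : Over (Spec (CommRingCat.of k))} (U : T.left.Opens) : Over (Spec (CommRingCat.of k)) :=
  Over.mk (U.ι ≫ T.hom)

/-- The inclusion of an open subset. -/
noncomputable abbrev opι {T : Over (Spec (CommRingCat.of k))} (U : T.left.Opens) : opO U ⟶ T := Over.homMk U.ι rfl

theorem exists_liftU {S T : Over (Spec (CommRingCat.of k))} {U : T.left.Opens} (t : S ⟶ T)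
    (h : ∀ x, t.left x ∈ U) : ∃ l : S ⟶ opO U, l ≫ opι U = t := by
  have hl := IsOpenImmersion.lift_fac U.ι t.left (by
    rw [Scheme.Opens.range_ι]; rintro _ ⟨x, rfl⟩; exact h x)
  refine ⟨Over.homMk (IsOpenImmersion.lift U.ι t.left _) ?_, Over.OverMorphism.ext hl⟩
  show _ ≫ U.ι ≫ T.hom = _
  rw [← Category.assoc, hl, Over.w t]

instance {T : Over (Spec (CommRingCat.of k))} (U : T.left.Opens) : Mono (opι U) :=
  (Over.forget _).mono_of_mono_map (inferInstanceAs (Mono U.ι))

theorem range_fromO_mem {T : Over (Spec (CommRingCat.of k))} {U : T.left.Opens} {p : T.left} (h : p ∈ U)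
    (x : (spO T p).left) : (fromO T p).left x ∈ U :=
  range_subset (fromO T p) (by rw [fromO_spt]; exact h) ⟨x, rfl⟩

/-- A morphism of local schemes from a map of local rings over the generic one. -/
theorem exists_hom_of_forall {X Y : Over (Spec (CommRingCat.of k))} [IsIntegral X.left] [IsIntegral Y.left]
    {p : X.left} {q : Y.left} (a : gen X ⟶ gen Y)
    (h : ∀ o, ∃ o', (hm (res (genericPoint_specializes p))).hom o' =
      (hm a).hom ((hm (res (genericPoint_specializes q))).hom o)) :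
    ∃ E : spO X p ⟶ spO Y q, res (genericPoint_specializes p) ≫ E = a ≫ res (genericPoint_specializes q) := by
  choose o' ho' using h
  have hinj : Function.Injective (hm (res (Y := X) (genericPoint_specializes p))).hom := by
    rw [hm_res]; exact IsFractionRing.injective (X.left.presheaf.stalk p) X.left.functionField
  let β : Y.left.presheaf.stalk q →+* X.left.presheaf.stalk p :=
    { toFun := o'
      map_one' := hinj (by rw [ho', map_one, map_one, map_one])
      map_zero' := hinj (by rw [ho', map_zero, map_zero, map_zero])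
      map_add' := fun a b => hinj (by rw [ho', map_add, map_add, map_add, ho', ho'])
      map_mul' := fun a b => hinj (by rw [ho', map_mul, map_mul, map_mul, ho', ho']) }
  have hβ : CommRingCat.ofHom β ≫ hm (res (genericPoint_specializes p)) = hm (res (genericPoint_specializes q)) ≫ hm a :=
    CommRingCat.hom_ext (RingHom.ext ho')
  have hc : cst Y q ≫ CommRingCat.ofHom β = cst X p := by
    ext c
    refine hinj ?_
    rw [← CommRingCat.comp_apply, Category.assoc, hβ, ← Category.assoc, cst_hm, cst_hm, ← CommRingCat.comp_apply, cst_hm]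
  let E : spO X p ⟶ spO Y q := Over.homMk (Spec.map (CommRingCat.ofHom β)) (by
    show Spec.map _ ≫ (spO Y q).hom = (spO X p).hom
    rw [← Spec.map_preimage (spO Y q).hom, ← Spec.map_preimage (spO X p).hom, ← Spec.map_comp]
    exact congrArg Spec.map hc)
  have hE : hm E = CommRingCat.ofHom β := Spec.map_injective (map_hm E)
  refine ⟨E, Over.OverMorphism.ext ?_⟩
  rw [← map_hm (res (genericPoint_specializes p) ≫ E), ← map_hm (a ≫ res (genericPoint_specializes q)), hm_comp, hm_comp,
    hE, hβ]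

variable [IsAlgClosed k] {G Y : Over (Spec (CommRingCat.of k))} [GrpObj G] [IsIntegral G.left] [IsIntegral Y.left]
  (io : gen Y ≅ gen G)

/-- The translation transported to the model. -/
noncomputable def tau (g : PT ⟶ G) : gen Y ⟶ gen Y := io.hom ≫ tr g ≫ io.inv

theorem tau_comp (g h : PT ⟶ G) : tau io g ≫ tau io h = tau io (h * g) := by
  rw [tau, tau, tau, ← tr_comp]
  simp only [Category.assoc, Iso.inv_hom_id_assoc]

theorem tau_one : tau io (1 : PT ⟶ G) = 𝟙 _ := by rw [tau, tr_one, Category.id_comp, Iso.hom_inv_id]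

/-- The translation carries the local ring at `z` to that at `y`. -/
def Sends (g : PT ⟶ G) (y z : Y.left) : Prop :=
  ∃ E : spO Y y ⟶ spO Y z, res (genericPoint_specializes y) ≫ E = tau io g ≫ res (genericPoint_specializes z) ∧
    E.left (spt Y y) = spt Y z

theorem sends_one (y : Y.left) : Sends io 1 y y :=
  ⟨𝟙 _, by rw [tau_one, Category.comp_id, Category.id_comp], rfl⟩

theorem Sends.comp {g h : PT ⟶ G} {x y z : Y.left} (h1 : Sends io g x y) (h2 : Sends io h y z) :
    Sends io (h * g) x z := by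
  obtain ⟨E, hE, hE'⟩ := h1
  obtain ⟨F, hF, hF'⟩ := h2
  exact ⟨E ≫ F, by rw [← Category.assoc, hE, Category.assoc, hF, ← Category.assoc, tau_comp],
    (spt_comp E F hE').trans hF'⟩

theorem Sends.unique [Y.left.IsSeparated] {g : PT ⟶ G} {y z z' : Y.left} (h1 : Sends io g y z) (h2 : Sends io g y z') :
    z = z' := by
  obtain ⟨E, hE, hE'⟩ := h1
  obtain ⟨F, hF, hF'⟩ := h2
  have h : E ≫ fromO Y z = F ≫ fromO Y z' := lift_ext (by
    rw [← Category.assoc, hE, ← Category.assoc, hF, Category.assoc, Category.assoc, res_fromO, res_fromO])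
  have := spt_eq _ _ h
  rwa [spt_comp E (fromO Y z) hE', spt_comp F (fromO Y z') hF', fromO_spt, fromO_spt] at this

theorem sends_invariant {ζ : Y.left} [Y.left.IsSeparated]
    (hinv : ∀ (h : PT ⟶ G) (b : G.left.functionField),
      (∃ o, (hm (res (Y := Y) (genericPoint_specializes ζ))).hom o = (hm io.hom).hom b) →
      ∃ o, (hm (res (Y := Y) (genericPoint_specializes ζ))).hom o = (hm io.hom).hom ((hm (tr h)).hom b))
    (g : PT ⟶ G) : Sends io g ζ ζ := by
  have key : ∀ g : PT ⟶ G, ∃ E : spO Y ζ ⟶ spO Y ζ,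
      res (genericPoint_specializes ζ) ≫ E = tau io g ≫ res (genericPoint_specializes ζ) := fun g =>
    exists_hom_of_forall (tau io g) fun o => by
      obtain ⟨o', ho'⟩ := hinv g ((hm io.inv).hom ((hm (res (genericPoint_specializes ζ))).hom o))
        ⟨o, (hm_iso_inv io _).symm⟩
      exact ⟨o', by rw [ho', tau, hm_comp, hm_comp]; rfl⟩
  obtain ⟨E, hE⟩ := key g
  obtain ⟨F, hF⟩ := key g⁻¹
  have comp : ∀ (a b : PT ⟶ G) (A B : spO Y ζ ⟶ spO Y ζ), b * a = 1 →
      res (genericPoint_specializes ζ) ≫ A = tau io a ≫ res (genericPoint_specializes ζ) →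
      res (genericPoint_specializes ζ) ≫ B = tau io b ≫ res (genericPoint_specializes ζ) → A ≫ B = 𝟙 _ :=
    fun a b A B hab hA hB => by
      rw [← cancel_mono (fromO Y ζ)]
      exact lift_ext (by
        rw [← Category.assoc, ← Category.assoc (res _), hA, Category.assoc (tau io a), hB, ← Category.assoc (tau io a),
          tau_comp, hab, tau_one, Category.id_comp, Category.id_comp])
  haveI : IsIso E := ⟨F, comp g g⁻¹ E F (inv_mul_cancel g) hE hF, comp g⁻¹ g F E (mul_inv_cancel g) hF hE⟩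
  haveI : IsIso (hm E) := by
    have h : ∀ {a b : spO Y ζ ⟶ spO Y ζ}, a ≫ b = 𝟙 _ → hm b ≫ hm a = 𝟙 _ := fun h => by rw [← hm_comp, h, hm_id]
    exact ⟨hm (inv E), h (IsIso.inv_hom_id E), h (IsIso.hom_inv_id E)⟩
  refine ⟨E, hE, ?_⟩
  rw [← map_hm E]
  exact comap_closedPoint (hm E).hom

variable [LocallyOfFiniteType G.hom] [Smooth G.hom] [QuasiCompact G.hom]

/-- The transporter between two closed points of the invariant divisor. -/
theorem exists_locus (hns : ¬ IsProper G.hom) :
    ∃ (Y : Over (Spec (CommRingCat.of k))) (_ : IsIntegral Y.left) (_ : IsAffine Y.left)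
      (_ : LocallyOfFiniteType Y.hom) (io : gen Y ≅ gen G) (U : (G ⊗ Y).left.Opens) (F : opO U ⟶ Y)
      (W : Over (Spec (CommRingCat.of k))) (_ : IsIntegral W.left) (_ : IsAffine W.left)
      (_ : LocallyOfFiniteType W.hom) (a : W ⟶ G) (d z : PT ⟶ Y), IsImmersion a.left ∧
      0 < VarDim.deg W.hom (genericPoint W.left) ∧
      (∀ (g : PT ⟶ G) (y : Y.left) (L : spO Y y ⟶ opO U), L ≫ opι U = fromO Y y ≫ sl Y g →
        res (genericPoint_specializes y) ≫ L ≫ F = tau io g ≫ fromO Y _) ∧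
      ∀ w : PT ⟶ W, (sl Y (w ≫ a)).left (Gen.cp d) ∈ U ∧ Sends io (w ≫ a) (Gen.cp d) (Gen.cp z) ∧
        Sends io (w ≫ a)⁻¹ (Gen.cp z) (Gen.cp d) := by
  classical
  haveI := GrpSchLib.AntiAffine.isSeparated_grp G
  obtain ⟨Y, hYi, hYa, hYl, io, ζ, hdvr, hdζ, hinv⟩ := exists_invariant (G := G) hns
  haveI : Y.left.IsSeparated := inferInstance
  haveI : IsSeparated Y.hom := inferInstance
  have hn := deg_gen_congr io
  haveI := H23.EquidimFibres.geometricallyIntegral_of_isAlgClosed (V := G)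
  haveI := H23.EquidimFibres.geometricallyIntegral_of_isAlgClosed (V := Y)
  haveI := H23.RatExt.geometricallyIntegral_prod G Y
  haveI : IsIntegral (G ⊗ Y).left := H23.MaxAbelian.isIntegral_of_geometricallyIntegral
  haveI : LocallyOfFiniteType (G ⊗ Y).hom := by
    show LocallyOfFiniteType (pullback.fst G.hom Y.hom ≫ G.hom); infer_instance
  obtain ⟨ζ', h1, h2, hdvr', -, -⟩ := exists_fibre_point (G := G) (inferInstance) hdζ hn
  haveI := hdvr'
  -- the product is defined at the fibre-generic point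
  let gY := Y.left.presheaf.germ ⊤ (genericPoint Y.left) trivial
  have hmem : ∀ c : Γ(Y.left, ⊤),
      ∃ o, (hm (res (Y := G ⊗ Y) (genericPoint_specializes ζ'))).hom o = (hm (psi (G := G) io.hom ≫ io.inv)).hom (gY.hom c) := fun c => by
    rw [hm_comp, CommRingCat.comp_apply]
    refine mem_stalkVal.mp (psi_mem io.hom h1 h2 _ fun h => hinv h _ ⟨(Y.left.presheaf.germ ⊤ ζ trivial).hom c, ?_⟩)
    rw [hm_iso_inv, hm_res, ← CommRingCat.comp_apply, TopCat.Presheaf.germ_stalkSpecializes]
  choose o ho using hmem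
  have hinj : Function.Injective (hm (res (Y := G ⊗ Y) (genericPoint_specializes ζ'))).hom := by
    rw [hm_res]; exact IsFractionRing.injective ((G ⊗ Y).left.presheaf.stalk ζ') (G ⊗ Y).left.functionField
  let β : Γ(Y.left, ⊤) →+* (G ⊗ Y).left.presheaf.stalk ζ' :=
    { toFun := o
      map_one' := hinj (by rw [ho, map_one, map_one, map_one])
      map_zero' := hinj (by rw [ho, map_zero, map_zero, map_zero])
      map_add' := fun a b => hinj (by rw [ho, map_add, map_add, map_add, ho, ho])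
      map_mul' := fun a b => hinj (by rw [ho, map_mul, map_mul, map_mul, ho, ho]) }
  let psiY : gen (G ⊗ Y) ⟶ Y := psi (G := G) io.hom ≫ io.inv ≫ fromO Y _
  let e₀ : Spec ((G ⊗ Y).left.presheaf.stalk ζ') ⟶ Y.left := Spec.map (CommRingCat.ofHom β) ≫ Y.left.isoSpec.inv
  have he₀ : Spec.map ((G ⊗ Y).left.presheaf.stalkSpecializes (genericPoint_specializes ζ')) ≫ e₀ = psiY.left := by
    have hβ : CommRingCat.ofHom β ≫ hm (res (genericPoint_specializes ζ')) = gY ≫ hm (psi (G := G) io.hom ≫ io.inv) :=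
      CommRingCat.hom_ext (RingHom.ext ho)
    rw [hm_res] at hβ
    rw [← Category.assoc, ← Spec.map_comp, hβ, Spec.map_comp, map_hm, Category.assoc,
      ← Scheme.fromSpecStalk_toSpecΓ, Category.assoc]
    show _ ≫ Y.left.fromSpecStalk _ ≫ Y.left.isoSpec.hom ≫ Y.left.isoSpec.inv = _
    rw [Iso.hom_inv_id, Category.comp_id]
    rfl
  have he₀w : e₀ ≫ Y.hom = (G ⊗ Y).left.fromSpecStalk ζ' ≫ (G ⊗ Y).hom := by
    haveI := isDominant_res (Y := G ⊗ Y) ζ'
    haveI := isReduced_spO (Y := G ⊗ Y) ζ'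
    refine ext_of_isDominant (res (Y := G ⊗ Y) (genericPoint_specializes ζ')).left ?_
    show Spec.map _ ≫ e₀ ≫ Y.hom = Spec.map _ ≫ _
    rw [← Category.assoc, he₀, Over.w psiY, Scheme.SpecMap_stalkSpecializes_fromSpecStalk_assoc]
    rfl
  obtain ⟨U, hgU, F₀, hζU, hF₀, hF₀gen⟩ := H23.RatExtend.extend (G ⊗ Y).hom Y.hom psiY.left (Over.w psiY) {ζ'}
    (fun p hp => by obtain rfl : p = ζ' := hp; exact ⟨e₀, he₀w, he₀⟩)
  let F : opO U ⟶ Y := Over.homMk F₀ hF₀
  have hAt : ∀ (g : PT ⟶ G) (y : Y.left) (L : spO Y y ⟶ opO U), L ≫ opι U = fromO Y y ≫ sl Y g →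
      res (genericPoint_specializes y) ≫ L ≫ F = tau io g ≫ fromO Y _ := fun g y L hL => by
    have hq : (sl Y g).left y ∈ U := by
      have := congrArg (fun f : spO Y y ⟶ G ⊗ Y => f.left (spt Y y)) hL
      simp only [Over.comp_left, Scheme.Hom.comp_apply, fromO_spt] at this
      rw [← this]
      exact (L.left (spt Y y)).2
    obtain ⟨l, hl⟩ := exists_liftU (fromO (G ⊗ Y) _) (range_fromO_mem hq)
    have hle : res (genericPoint_specializes _) ≫ l ≫ F = psiY := by
      obtain ⟨l₀, hl₀⟩ := exists_liftU (fromO (G ⊗ Y) _) (range_fromO_mem hgU)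
      have e : res (genericPoint_specializes _) ≫ l = l₀ := by
        rw [← cancel_mono (opι U), Category.assoc, hl, hl₀, res_fromO]
      rw [← Category.assoc, e]
      refine Over.OverMorphism.ext (Eq.trans ?_ hF₀gen)
      show l₀.left ≫ F₀ = _
      congr 1
      rw [← cancel_mono U.ι, Scheme.Opens.fromSpecStalkOfMem_ι]
      exact congrArg CommaMorphism.left hl₀
    have hL' : L = stk (sl Y g) y ≫ l := by
      rw [← cancel_mono (opι U), hL, Category.assoc, hl, stk_fromO]
    have hsp : (sl Y g).left (genericPoint Y.left) ⤳ (sl Y g).left y :=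
      (genericPoint_specializes y).map (sl Y g).left.continuous
    obtain ⟨a, ha1, ha2⟩ := exists_psiAt (G := G) io.hom g
    have hp : res hsp ≫ l ≫ F = a ≫ io.inv ≫ fromO Y _ := lift_ext (by
      rw [← Category.assoc, res_comp, hle, ← Category.assoc, ha1])
    rw [hL', Category.assoc, ← Category.assoc, res_stk, Category.assoc, hp, ← Category.assoc, ha2, tau,
      Category.assoc, Category.assoc, Category.assoc]
  have hS : ∀ (g : PT ⟶ G) (y : Y.left) (hy : (sl Y g).left y ∈ U), Sends io g y (F₀ ⟨_, hy⟩) := fun g y hy => by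
    obtain ⟨L, hL⟩ := exists_liftU (fromO Y y ≫ sl Y g) fun x => by
      rw [← stk_fromO, Over.comp_left, Scheme.Hom.comp_apply]; exact range_fromO_mem hy _
    have hv : (L ≫ F).left (spt Y y) = F₀ ⟨_, hy⟩ := by
      rw [Over.comp_left, Scheme.Hom.comp_apply]
      refine congrArg F₀ (Subtype.ext ?_)
      have := congrArg (fun f : spO Y y ⟶ G ⊗ Y => f.left (spt Y y)) hL
      simp only [Over.comp_left, Scheme.Hom.comp_apply, fromO_spt] at this
      exact this
    obtain ⟨E, hE, hEs⟩ := exists_lift (L ≫ F) hv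
    refine ⟨E, ?_, hEs⟩
    rw [← cancel_mono (fromO Y _), Category.assoc, hE, hAt g y L hL, Category.assoc, res_fromO]
  have hfix := fun g => sends_invariant io hinv g
  have hval : ∀ g (hy : (sl Y g).left ζ ∈ U), F₀ ⟨_, hy⟩ = ζ := fun g hy => (hS g ζ hy).unique io (hfix g)
  -- the open set on which the action can be inverted
  let ν : G ⊗ Y ⟶ G ⊗ Y := lift (fst G Y)⁻¹ (snd G Y)
  have hνν : ν ≫ ν = 𝟙 _ := by
    apply CartesianMonoidalCategory.hom_ext <;> simp [ν, GrpObj.comp_inv]
  have hslν : ∀ g : PT ⟶ G, sl Y g ≫ ν = sl Y g⁻¹ := fun g => by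
    apply CartesianMonoidalCategory.hom_ext <;> simp [ν, sl, GrpObj.comp_inv]
  have hνζ : ν.left ζ' = ζ' := by
    have hs : ∀ x, (snd G Y).left (ν.left x) = (snd G Y).left x := fun x => by
      rw [← Scheme.Hom.comp_apply, ← Over.comp_left, lift_snd]
    refine (Specializes.antisymm ?_ (h2 _ ((hs ζ').trans h1))).eq
    have := (h2 _ ((hs ζ').trans h1)).map ν.left.continuous
    rwa [← Scheme.Hom.comp_apply ν.left, ← Over.comp_left, hνν] at this
  let Φ : opO U ⟶ G ⊗ Y := lift (opι U ≫ fst G Y)⁻¹ F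
  let U₂ : (G ⊗ Y).left.Opens := U.ι ''ᵁ (Φ.left ⁻¹ᵁ U)
  have hΦ : ∀ g y (hy : (sl Y g).left y ∈ U), Φ.left ⟨_, hy⟩ = (sl Y g⁻¹).left (F₀ ⟨_, hy⟩) := fun g y hy => by
    have e : Φ ≫ fst G Y = opι U ≫ ν ≫ fst G Y := by simp [Φ, ν, GrpObj.comp_inv]
    have h1 : (fst G Y).left (Φ.left ⟨_, hy⟩) = Gen.cp g⁻¹ := by
      rw [← Scheme.Hom.comp_apply, ← Over.comp_left, e]
      show (fst G Y).left (ν.left ((sl Y g).left y)) = _
      rw [← Scheme.Hom.comp_apply (sl Y g).left, ← Over.comp_left, hslν, fst_sl_apply]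
    rw [eq_sl h1]
    congr 1
    rw [← Scheme.Hom.comp_apply, ← Over.comp_left, lift_snd]
    rfl
  obtain ⟨g, hg⟩ := exists_sl_mem (G := G) (O := U ⊓ ν.left ⁻¹ᵁ U) (w := ζ') ⟨hζU rfl, by
    show ν.left ζ' ∈ U; rw [hνζ]; exact hζU rfl⟩
  rw [h1] at hg
  have hgU₂ : (sl Y g).left ζ ∈ U₂ := ⟨⟨_, hg.1⟩, by
    show Φ.left _ ∈ U
    rw [hΦ g ζ hg.1, hval g hg.1, ← hslν, Over.comp_left, Scheme.Hom.comp_apply]; exact hg.2, rfl⟩
  haveI : JacobsonSpace Y.left := LocallyOfFiniteType.jacobsonSpace Y.hom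
  obtain ⟨d₀, ⟨hdcl, hdU⟩, hdc⟩ := nonempty_inter_closedPoints
    (Z := closure ({ζ} : Set Y.left) ∩ (sl Y g).left ⁻¹' (U₂ : Set (G ⊗ Y).left))
    ⟨ζ, subset_closure rfl, hgU₂⟩
    (isClosed_closure.isLocallyClosed.inter (U₂.2.preimage (sl Y g).left.continuous).isLocallyClosed)
  obtain ⟨d, rfl⟩ := Gen.exists_cp hdc
  -- the translates of `d`
  let σd : G ⟶ G ⊗ Y := lift (𝟙 G) (toUnit G ≫ d)
  have hσd : ∀ p : PT ⟶ G, σd.left (Gen.cp p) = (sl Y p).left (Gen.cp d) := fun p => by
    rw [← Gen.cp_comp, ← Gen.cp_comp]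
    congr 1
    apply CartesianMonoidalCategory.hom_ext <;>
      simp only [σd, sl, Category.assoc, lift_fst, lift_snd, Category.comp_id]
    · rw [← Category.assoc, toUnit_unique (d ≫ toUnit Y) (𝟙 _), Category.id_comp]
    · rw [← Category.assoc, toUnit_unique (p ≫ toUnit G) (𝟙 _), Category.id_comp]
  let V : G.left.Opens := σd.left ⁻¹ᵁ U₂
  have hgV : Gen.cp g ∈ V := by show σd.left (Gen.cp g) ∈ U₂; rw [hσd]; exact hdU
  let VO := opO V
  haveI : LocallyOfFiniteType VO.hom := inferInstanceAs (LocallyOfFiniteType (V.ι ≫ G.hom))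
  haveI : Nonempty (V : Scheme.{u}) := ⟨⟨_, hgV⟩⟩
  haveI : Nonempty VO.left := ‹Nonempty (V : Scheme.{u})›
  haveI : IsPreimmersion (opι V).left := inferInstanceAs (IsPreimmersion V.ι)
  haveI : IsIntegral VO.left := by
    exact isIntegral_of_isOpenImmersion V.ι
  obtain ⟨lv, hlv⟩ := exists_liftU (U := U) (opι V ≫ σd) fun x => by
    obtain ⟨u, -, hu⟩ := x.2
    show σd.left x.1 ∈ U
    exact hu ▸ u.2
  let f : VO ⟶ Y := lv ≫ F
  haveI : JacobsonSpace VO.left := LocallyOfFiniteType.jacobsonSpace VO.hom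
  have hrange : Set.range f.left ⊆ closure ({ζ} : Set Y.left) := by
    rintro _ ⟨x, rfl⟩
    refine (Gen.eq_univ_of_forall_cp (isClosed_closure.preimage f.left.continuous) fun v => ?_).ge (Set.mem_univ x)
    let p : PT ⟶ G := v ≫ opι V
    have hpU : (sl Y p).left (Gen.cp d) ∈ U := by
      rw [← hσd]; obtain ⟨u, -, hu⟩ := (Gen.cp v).2; exact hu ▸ u.2
    have hfv : f.left (Gen.cp v) = F₀ ⟨_, hpU⟩ := by
      show F₀ (lv.left (Gen.cp v)) = _
      refine congrArg F₀ (Subtype.ext ?_)
      show (lv ≫ opι U).left (Gen.cp v) = _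
      rw [hlv]; exact hσd p
    show f.left (Gen.cp v) ∈ closure ({ζ} : Set Y.left)
    rw [hfv]
    have hsp : (sl Y p).left ζ ⤳ (sl Y p).left (Gen.cp d) :=
      (specializes_iff_mem_closure.mpr hdcl).map (sl Y p).left.continuous
    have hζp : (sl Y p).left ζ ∈ U := hsp.mem_open U.2 hpU
    have hsp' : (⟨_, hζp⟩ : (U : Scheme.{u})) ⤳ ⟨_, hpU⟩ := U.ι.isEmbedding.isInducing.specializes_iff.mp hsp
    have := hsp'.map F₀.continuous
    rw [hval p hζp] at this
    exact specializes_iff_mem_closure.mp this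
  -- a positive-dimensional fibre
  haveI : LocallyOfFiniteType f.left := by
    haveI : LocallyOfFiniteType (f.left ≫ Y.hom) := by rw [Over.w f]; infer_instance
    exact locallyOfFiniteType_of_comp f.left Y.hom
  have hfd : 1 ≤ VarDim.fdeg f.left (genericPoint VO.left) := by
    have e1 := VarDim.deg_eq_add f.left Y.hom (Over.w f) (genericPoint VO.left)
    have e2 := VarDim.deg_le_of_specializes Y.hom
      (specializes_iff_mem_closure.mpr (hrange ⟨genericPoint VO.left, rfl⟩))
    have e3 : VarDim.deg VO.hom (genericPoint VO.left) = VarDim.deg G.hom (genericPoint G.left) := by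
      rw [deg_preimmersion (opι V)]
      congr 1
      exact genericPoint_eq_of_isOpenImmersion V.ι
    omega
  obtain ⟨c₀, -, hc₀⟩ := VarDim.exists_closed_specialization VO.hom (genericPoint VO.left)
  obtain ⟨x', -, -, hfx, hx'⟩ := VarDim.exists_fdeg_ge (k := k) f.left Y.hom (genericPoint_specializes c₀)
  obtain ⟨v₀, rfl⟩ := Gen.exists_cp hc₀
  let z : PT ⟶ Y := v₀ ≫ f
  have hx'z : f.left x' = Gen.cp z := hfx
  -- its reduced affine piece
  obtain ⟨W₁, i₁, hi₁, hW₁r, hW₁range⟩ := H23.RedSub.exists_reduced_subscheme VO.left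
    (isClosed_closure (s := ({x'} : Set VO.left))).isLocallyClosed
  obtain ⟨y₁, hy₁⟩ : x' ∈ Set.range i₁ := hW₁range ▸ subset_closure rfl
  obtain ⟨_, ⟨(A : W₁.Opens), hA, rfl⟩, hy₁A, -⟩ :=
    W₁.isBasis_affineOpens.exists_subset_of_mem_open (Set.mem_univ y₁) isOpen_univ
  let W : Over (Spec (CommRingCat.of k)) := Over.mk (A.ι ≫ i₁ ≫ VO.hom)
  let b : W ⟶ VO := Over.homMk (A.ι ≫ i₁) (Category.assoc _ _ _)
  haveI : IsImmersion i₁ := hi₁
  haveI : IsImmersion b.left := inferInstanceAs (IsImmersion (A.ι ≫ i₁))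
  haveI : IsAffine W.left := hA
  haveI : IsReduced W₁ := hW₁r
  haveI : IsReduced W.left := inferInstanceAs (IsReduced (A : Scheme.{u}))
  haveI : LocallyOfFiniteType W.hom := inferInstanceAs (LocallyOfFiniteType (A.ι ≫ i₁ ≫ VO.hom))
  haveI : IrreducibleSpace W.left := by
    have h : IsIrreducible (Set.range i₁) := by rw [hW₁range]; exact isIrreducible_singleton.closure
    haveI := Subtype.irreducibleSpace h
    haveI : IrreducibleSpace W₁ :=
      i₁.isEmbedding.toHomeomorph.symm.surjective.irreducibleSpace i₁.isEmbedding.toHomeomorph.symm.continuous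
    haveI : Nonempty (A : Scheme.{u}) := ⟨⟨y₁, hy₁A⟩⟩
    exact A.ι.isOpenEmbedding.irreducibleSpace
  haveI : IsIntegral W.left := isIntegral_of_irreducibleSpace_of_isReduced _
  have hbgen : b.left (genericPoint W.left) = x' := by
    refine (Specializes.antisymm ?_ (specializes_iff_mem_closure.mpr (hW₁range ▸ ⟨_, rfl⟩))).eq
    rw [← hy₁]
    exact (genericPoint_specializes (α := W.left) ⟨y₁, hy₁A⟩).map b.left.continuous
  refine ⟨Y, hYi, hYa, hYl, io, U, F, W, inferInstance, inferInstance, inferInstance, b ≫ opι V, d, z,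
    inferInstanceAs (IsImmersion (b.left ≫ V.ι)), ?_, hAt, fun w => ?_⟩
  · rw [deg_preimmersion b, hbgen]
    have e := VarDim.deg_eq_add f.left Y.hom (Over.w f) x'
    omega
  · let v : PT ⟶ VO := w ≫ b
    let p : PT ⟶ G := v ≫ opι V
    have hp : w ≫ b ≫ opι V = p := (Category.assoc _ _ _).symm
    obtain ⟨u, hu1, hu2⟩ := (Gen.cp v).2
    have hpU : (sl Y p).left (Gen.cp d) ∈ U := by rw [← hσd]; exact hu2 ▸ u.2
    have hfv : f.left (Gen.cp v) = F₀ ⟨_, hpU⟩ := by
      show F₀ (lv.left (Gen.cp v)) = _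
      refine congrArg F₀ (Subtype.ext ?_)
      show (lv ≫ opι U).left (Gen.cp v) = _
      rw [hlv]; exact hσd p
    have hz : F₀ ⟨_, hpU⟩ = Gen.cp z := by
      rw [← hfv]
      have hsp : b.left (genericPoint W.left) ⤳ Gen.cp v :=
        (genericPoint_specializes (α := W.left) (Gen.cp w)).map b.left.continuous
      rw [hbgen] at hsp
      have := hsp.map f.left.continuous
      rw [hx'z] at this
      exact (this.mem_closed (Gen.isClosed_cp z) (Set.mem_singleton _) : f.left (Gen.cp v) ∈ ({Gen.cp z} : Set Y.left))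
    rw [hp]
    refine ⟨hpU, hz ▸ hS p _ hpU, ?_⟩
    have hu' : u = ⟨_, hpU⟩ := Subtype.ext (hu2.trans (hσd p))
    have hinvU : (sl Y p⁻¹).left (Gen.cp z) ∈ U := by
      rw [← hz, ← hΦ p _ hpU, ← hu']; exact hu1
    have h1' := hS p⁻¹ (Gen.cp z) hinvU
    have h2' := (hz ▸ hS p _ hpU : Sends io p (Gen.cp d) (Gen.cp z)).comp io h1'
    rw [inv_mul_cancel] at h2'
    exact (h2'.unique io (sends_one io _)) ▸ h1'

end Groth.Agent.AGFLib.Rosen
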