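import Groth.Agent.H23.RatPoint
import Groth.Agent.AGFLib.GenSubgroup
import Groth.Agent.AGFLib.FibrePts
import Groth.Agent.H23.RatExt
import Groth.Agent.H23.EquidimFibres

/-! Generic points, translations and slices for actions of a group on its rational models. -/

set_option backward.isDefEq.respectTransparency false
set_option backward.isDefEq.respectTransparency.types false
set_option linter.style.haveILetI false

universe u

open CategoryTheory Limits AlgebraicGeometry MonoidalCategory CartesianMonoidalCategory MonObj IsLocalRing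
open scoped MonObj

namespace Groth.Agent.AGFLib.Rosen

open H23.RatPoint

variable {k : Type u} [Field k]

local notation "PT" => 𝟙_ (Over (Spec (CommRingCat.of k)))

section Calculus

variable {S : Scheme.{u}} {X Y Z : Over S}

/-- The inclusion of the spectrum of a local ring. -/
noncomputable def fromO (X : Over S) (x : X.left) : spO X x ⟶ X := Over.homMk (X.left.fromSpecStalk x) rfl

instance (X : Over S) (x : X.left) : Mono (fromO X x) :=
  (Over.forget _).mono_of_mono_map (inferInstanceAs (Mono (X.left.fromSpecStalk x)))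

theorem fromO_spt (x : X.left) : (fromO X x).left (spt X x) = x := Scheme.fromSpecStalk_closedPoint

theorem res_fromO {p q : X.left} (h : q ⤳ p) : res h ≫ fromO X p = fromO X q :=
  Over.OverMorphism.ext (Scheme.SpecMap_stalkSpecializes_fromSpecStalk h)

theorem stk_fromO (π : X ⟶ Y) (p : X.left) : stk π p ≫ fromO Y (π.left p) = fromO X p ≫ π :=
  Over.OverMorphism.ext (Scheme.SpecMap_stalkMap_fromSpecStalk π.left)

/-- The ring map of a morphism of spectra of local rings. -/
noncomputable def hm {p : X.left} {q : Y.left} (a : spO X p ⟶ spO Y q) :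
    Y.left.presheaf.stalk q ⟶ X.left.presheaf.stalk p := Spec.preimage a.left

theorem map_hm {p : X.left} {q : Y.left} (a : spO X p ⟶ spO Y q) : Spec.map (hm a) = a.left := Spec.map_preimage _

theorem hm_comp {p : X.left} {q : Y.left} {r : Z.left} (a : spO X p ⟶ spO Y q) (b : spO Y q ⟶ spO Z r) :
    hm (a ≫ b) = hm b ≫ hm a := Spec.map_injective (by rw [map_hm, Spec.map_comp, map_hm, map_hm]; rfl)

theorem hm_id {p : X.left} : hm (𝟙 (spO X p)) = 𝟙 _ := Spec.map_injective (by rw [map_hm, Spec.map_id]; rfl)

theorem hm_res {p q : X.left} (h : q ⤳ p) : hm (res h) = X.left.presheaf.stalkSpecializes h :=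
  Spec.map_injective (by rw [map_hm]; rfl)

theorem hm_stk (π : X ⟶ Y) (p : X.left) : hm (stk π p) = π.left.stalkMap p :=
  Spec.map_injective (by rw [map_hm]; rfl)

theorem spt_eq {T : Over S} {p : T.left} (a b : spO T p ⟶ X) (h : a = b) : a.left (spt T p) = b.left (spt T p) := by
  rw [h]

/-- A morphism from a local scheme factors through the spectrum of the local ring of its value. -/
theorem exists_lift {T : Over S} {p : T.left} (a : spO T p ⟶ X) {x : X.left} (h : a.left (spt T p) = x) :
    ∃ b : spO T p ⟶ spO X x, b ≫ fromO X x = a ∧ b.left (spt T p) = spt X x := by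
  subst h
  refine ⟨Over.homMk (Spec.map (Scheme.stalkClosedPointTo a.left)) ?_, ?_, ?_⟩
  · show Spec.map _ ≫ X.left.fromSpecStalk _ ≫ X.hom = _
    rw [← Category.assoc]
    exact (congrArg (· ≫ X.hom) (Scheme.Spec_stalkClosedPointTo_fromSpecStalk a.left)).trans (Over.w a)
  · exact Over.OverMorphism.ext (Scheme.Spec_stalkClosedPointTo_fromSpecStalk a.left)
  · exact comap_closedPoint (Scheme.stalkClosedPointTo a.left).hom

theorem spt_comp {T : Over S} {p : T.left} {q : Y.left} (a : spO T p ⟶ spO Y q) (b : spO Y q ⟶ X)
    (ha : a.left (spt T p) = spt Y q) : (a ≫ b).left (spt T p) = b.left (spt Y q) := by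
  rw [Over.comp_left, Scheme.Hom.comp_apply, ha]

theorem gen_spt [IrreducibleSpace X.left] [IsReduced X.left] (t : (gen X).left) : t = spt X _ := by
  haveI : IsIntegral X.left := isIntegral_of_irreducibleSpace_of_isReduced _
  exact @Subsingleton.elim _ (inferInstanceAs (Subsingleton (PrimeSpectrum X.left.functionField))) _ _

end Calculus

section Trans

variable [IsAlgClosed k]

variable {G : Over (Spec (CommRingCat.of k))} [GrpObj G] [IrreducibleSpace G.left]

theorem translate_generic (h : PT ⟶ G) :
    ((toUnit (gen G) ≫ h) * fromO G _).left (spt G _) = genericPoint G.left := by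
  let L : G ⟶ G := (toUnit G ≫ h) * 𝟙 G
  let L' : G ⟶ G := (toUnit G ≫ h⁻¹) * 𝟙 G
  have e : (toUnit (gen G) ≫ h) * fromO G (genericPoint G.left) = fromO G _ ≫ L := by
    rw [MonObj.comp_mul, ← Category.assoc, comp_toUnit, Category.comp_id]
  have hL : L' ≫ L = 𝟙 G := by
    rw [MonObj.comp_mul, ← Category.assoc, comp_toUnit, Category.comp_id]
    simp only [L', GrpObj.comp_inv, mul_inv_cancel_left]
  rw [e, Over.comp_left, Scheme.Hom.comp_apply, fromO_spt]
  refine ((genericPoint_specializes _).antisymm ?_).eq.symm
  have := (genericPoint_specializes (L'.left (genericPoint G.left))).map L.left.continuous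
  rwa [← Scheme.Hom.comp_apply, ← Over.comp_left, hL] at this

/-- The translation of the generic point. -/
noncomputable def tr (h : PT ⟶ G) : gen G ⟶ gen G :=
  (exists_lift _ (translate_generic h)).choose

theorem tr_spec (h : PT ⟶ G) : tr h ≫ fromO G _ = (toUnit (gen G) ≫ h) * fromO G _ :=
  (exists_lift _ (translate_generic h)).choose_spec.1

theorem tr_comp (g h : PT ⟶ G) : tr g ≫ tr h = tr (h * g) := by
  rw [← cancel_mono (fromO G _), Category.assoc, tr_spec, MonObj.comp_mul, tr_spec, tr_spec, ← Category.assoc,
    comp_toUnit, MonObj.comp_mul, _root_.mul_assoc]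

theorem tr_one : tr (1 : PT ⟶ G) = 𝟙 _ := by
  rw [← cancel_mono (fromO G _), tr_spec, MonObj.comp_one, _root_.one_mul, Category.id_comp]

end Trans

section Prod

variable [IsAlgClosed k] {G X : Over (Spec (CommRingCat.of k))}

/-- The slice at a rational point. -/
noncomputable def sl (X : Over (Spec (CommRingCat.of k))) (g : PT ⟶ G) : X ⟶ G ⊗ X := lift (toUnit X ≫ g) (𝟙 X)

theorem sl_fst (g : PT ⟶ G) : sl X g ≫ fst G X = toUnit X ≫ g := lift_fst _ _
theorem sl_snd (g : PT ⟶ G) : sl X g ≫ snd G X = 𝟙 X := lift_snd _ _

theorem snd_sl_apply (g : PT ⟶ G) (x : X.left) : (snd G X).left ((sl X g).left x) = x :=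
  congrArg (fun f : X ⟶ X => f.left x) (sl_snd g)

theorem fst_sl_apply (g : PT ⟶ G) (x : X.left) : (fst G X).left ((sl X g).left x) = Gen.cp g := by
  rw [← Scheme.Hom.comp_apply, ← Over.comp_left, sl_fst, Over.comp_left, Scheme.Hom.comp_apply]
  exact congrArg g.left (Subsingleton.elim (α := PrimeSpectrum k) _ _)

/-- The fibre of the first projection over a rational point is the slice. -/
theorem eq_sl {g : PT ⟶ G} {w : (G ⊗ X).left} (hw : (fst G X).left w = Gen.cp g) :
    w = (sl X g).left ((snd G X).left w) := by
  let p := (fst G X).left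
  obtain ⟨u, -, hu2⟩ := Scheme.Pullback.exists_preimage_pullback (f := g.left) (g := p) (closedPoint k) w hw.symm
  have e : (pullback.snd g.left p ≫ (snd G X).left) ≫ (sl X g).left = pullback.snd g.left p := by
    apply pullback.hom_ext
    · rw [Category.assoc, show (sl X g).left ≫ pullback.fst G.hom X.hom = X.hom ≫ g.left from
        congrArg CommaMorphism.left (sl_fst (X := X) g)]
      rw [show pullback.snd g.left p ≫ pullback.fst G.hom X.hom = pullback.fst g.left p ≫ g.left from
        pullback.condition.symm, Category.assoc, ← Category.assoc (snd G X).left, Over.w (snd G X),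
        ← Category.assoc (pullback.snd g.left p)]
      congr 1
      rw [← Over.w (fst G X), ← Category.assoc, show pullback.snd g.left p ≫ (fst G X).left =
        pullback.fst g.left p ≫ g.left from pullback.condition.symm, Category.assoc, Over.w g]
      exact Category.comp_id _
    · rw [Category.assoc, show (sl X g).left ≫ pullback.snd G.hom X.hom = 𝟙 _ from
        congrArg CommaMorphism.left (sl_snd g), Category.comp_id]
      rfl
  have h := congrArg (fun f : pullback g.left p ⟶ (G ⊗ X).left => f u) e
  simp only [Scheme.Hom.comp_apply, hu2] at h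
  exact h.symm

/-- An open subset meeting a fibre of the second projection contains a rational slice point of it. -/
theorem exists_sl_mem [LocallyOfFiniteType G.hom] {O : (G ⊗ X).left.Opens} {w : (G ⊗ X).left} (hw : w ∈ O) :
    ∃ g : PT ⟶ G, (sl X g).left ((snd G X).left w) ∈ O := by
  haveI : JacobsonSpace G.left := LocallyOfFiniteType.jacobsonSpace G.hom
  set x := (snd G X).left w with hx
  let q := (snd G X).left
  let r := X.left.fromSpecResidueField x
  obtain ⟨v, -, hv⟩ := Scheme.Pullback.exists_preimage_pullback (f := r) (g := q)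
    (closedPoint (X.left.residueField x)) w (by
      have : r (closedPoint (X.left.residueField x)) ∈ Set.range r := ⟨_, rfl⟩
      rwa [Scheme.range_fromSpecResidueField] at this)
  let P : Over (Spec (CommRingCat.of k)) := Over.mk (r ≫ X.hom)
  have hopen : IsOpenMap (fst G P).left := by
    haveI : UniversallyOpen P.hom := inferInstance
    haveI : UniversallyOpen (fst G P).left :=
      MorphismProperty.pullback_fst (P := @UniversallyOpen) G.hom P.hom ‹_›
    exact (fst G P).left.isOpenMap
  let π : P ⟶ X := Over.homMk r rfl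
  let j : G ⊗ P ⟶ G ⊗ X := G ◁ π
  have hj : IsPullback j (snd G P) (snd G X) π := by
    refine ⟨⟨whiskerLeft_snd _ _⟩, ⟨PullbackCone.IsLimit.mk _
      (fun c => lift (c.fst ≫ fst G X) c.snd) (fun c => ?_) (fun c => lift_snd _ _) (fun c m h₁ h₂ => ?_)⟩⟩
    · apply CartesianMonoidalCategory.hom_ext
      · rw [Category.assoc, whiskerLeft_fst, lift_fst]
      · rw [Category.assoc, whiskerLeft_snd, lift_snd_assoc, c.condition]
    · apply CartesianMonoidalCategory.hom_ext
      · rw [lift_fst, ← h₁, Category.assoc, whiskerLeft_fst]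
      · rw [lift_snd]; exact h₂
  obtain ⟨z, hz⟩ : w ∈ Set.range j.left := by
    obtain ⟨z, hz, -⟩ := Scheme.exists_preimage_of_isPullback (hj.map (Over.forget _)) w
      (closedPoint (X.left.residueField x)) (by
        have : r (closedPoint (X.left.residueField x)) ∈ Set.range r := ⟨_, rfl⟩
        rw [Scheme.range_fromSpecResidueField] at this
        exact this.symm)
    exact ⟨z, hz⟩
  obtain ⟨c, hc, hcl⟩ := nonempty_inter_closedPoints (Z := (fst G P).left '' (j.left ⁻¹' (O : Set (G ⊗ X).left)))
    ⟨_, ⟨z, by rw [Set.mem_preimage, hz]; exact hw, rfl⟩⟩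
    (hopen _ (O.2.preimage j.left.continuous)).isLocallyClosed
  obtain ⟨g, rfl⟩ := Gen.exists_cp hcl
  obtain ⟨y, hy, hyg⟩ := hc
  refine ⟨g, ?_⟩
  have h1 : (fst G X).left (j.left y) = Gen.cp g := by
    rw [← Scheme.Hom.comp_apply, ← Over.comp_left, whiskerLeft_fst]; exact hyg
  have h2 : (snd G X).left (j.left y) = x := by
    rw [← Scheme.Hom.comp_apply, ← Over.comp_left, whiskerLeft_snd, Over.comp_left, Scheme.Hom.comp_apply]
    have : r ((snd G P).left y) ∈ Set.range r := ⟨_, rfl⟩
    rwa [Scheme.range_fromSpecResidueField] at this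
  rw [← h2, ← eq_sl h1]
  exact hy

end Prod

end Groth.Agent.AGFLib.Rosen
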