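import Groth.Agent.AGFLib.Rosen.Basic

/-! The rational action of a group on a model of its function field, and its slices. -/

set_option backward.isDefEq.respectTransparency false
set_option backward.isDefEq.respectTransparency.types false
set_option linter.style.haveILetI false
set_option maxHeartbeats 1000000

universe u

open CategoryTheory Limits AlgebraicGeometry MonoidalCategory CartesianMonoidalCategory MonObj IsLocalRing
open scoped MonObj

namespace Groth.Agent.AGFLib.Rosen

open H23.RatPoint

variable {k : Type u} [Field k]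

local notation "PT" => 𝟙_ (Over (Spec (CommRingCat.of k)))

/-- The local ring of a point, inside the function field. -/
noncomputable def stalkVal (T : Over (Spec (CommRingCat.of k))) [IsIntegral T.left] (p : T.left)
    [ValuationRing (T.left.presheaf.stalk p)] : ValuationSubring T.left.functionField :=
  ValuationSubring.ofSubring (algebraMap (T.left.presheaf.stalk p) T.left.functionField).range fun z =>
    (ValuationRing.isInteger_or_isInteger (T.left.presheaf.stalk p) z).imp id id

theorem mem_stalkVal {T : Over (Spec (CommRingCat.of k))} [IsIntegral T.left] {p : T.left}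
    [ValuationRing (T.left.presheaf.stalk p)] {a : T.left.functionField} :
    a ∈ stalkVal T p ↔ ∃ o, (hm (res (Y := T) (genericPoint_specializes p))).hom o = a := by
  rw [hm_res]; exact Iff.rfl

variable [IsAlgClosed k] {G X : Over (Spec (CommRingCat.of k))} [GrpObj G] [IsIntegral G.left] [IsIntegral X.left]
  [IsIntegral (G ⊗ X).left]

theorem snd_generic [LocallyOfFiniteType G.hom] :
    (snd G X).left (genericPoint (G ⊗ X).left) = genericPoint X.left := by
  have := (genericPoint_specializes ((sl X (1 : PT ⟶ G)).left (genericPoint X.left))).map (snd G X).left.continuous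
  rw [snd_sl_apply] at this
  exact (this.antisymm (genericPoint_specializes _)).eq

variable (io : gen X ⟶ gen G)

/-- The product at a point over the generic point. -/
noncomputable def chi (p : (G ⊗ X).left) (hp : (snd G X).left p ⤳ genericPoint X.left) : spO (G ⊗ X) p ⟶ G :=
  (fromO _ p ≫ fst G X) * (stk (snd G X) p ≫ res hp ≫ io ≫ fromO G _)

theorem sl_res (g : PT ⟶ G) (h : (snd G X).left ((sl X g).left (genericPoint X.left)) ⤳ genericPoint X.left) :
    stk (sl X g) _ ≫ stk (snd G X) _ ≫ res h = 𝟙 (gen X) := by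
  rw [← cancel_mono (fromO X _), Category.assoc, Category.assoc, res_fromO, stk_fromO, ← Category.assoc,
    stk_fromO, Category.assoc, sl_snd, Category.comp_id, Category.id_comp]

theorem sl_chi (g : PT ⟶ G) (h : (snd G X).left ((sl X g).left (genericPoint X.left)) ⤳ genericPoint X.left) :
    stk (sl X g) _ ≫ chi io _ h = (io ≫ tr g) ≫ fromO G _ := by
  rw [chi, MonObj.comp_mul, ← Category.assoc, stk_fromO, Category.assoc, sl_fst, ← Category.assoc, comp_toUnit,
    ← Category.assoc (stk (sl X g) _), ← Category.assoc (stk (sl X g) _ ≫ stk (snd G X) _),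
    Category.assoc (stk (sl X g) _), sl_res, Category.id_comp, Category.assoc, tr_spec, MonObj.comp_mul,
    ← Category.assoc, comp_toUnit]

theorem res_chi {p : (G ⊗ X).left} (hp : (snd G X).left p ⤳ genericPoint X.left)
    (hξ : (snd G X).left (genericPoint (G ⊗ X).left) ⤳ genericPoint X.left) :
    res (genericPoint_specializes p) ≫ chi io p hp = chi io _ hξ := by
  rw [chi, MonObj.comp_mul, ← Category.assoc, res_fromO, ← Category.assoc (res _), res_stk, Category.assoc,
    ← Category.assoc (res _) (res hp), res_comp]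
  rfl

variable [LocallyOfFiniteType G.hom]

theorem chi_sl_spt (g : PT ⟶ G) (h : (snd G X).left ((sl X g).left (genericPoint X.left)) ⤳ genericPoint X.left) :
    (chi io _ h).left (spt (G ⊗ X) ((sl X g).left (genericPoint X.left))) = genericPoint G.left := by
  have := congrArg (fun a : gen X ⟶ G => a.left (spt X _)) (sl_chi io g h)
  simp only [Over.comp_left, Scheme.Hom.comp_apply, res_spt_stk] at this
  rw [this, gen_spt ((tr g).left (io.left (spt X (genericPoint X.left)))), fromO_spt]

theorem chi_gen_spt : (chi io _ (specializes_of_eq (snd_generic (G := G) (X := X)))).left (spt (G ⊗ X) _) = genericPoint G.left := by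
  let g : PT ⟶ G := 1
  have hg := specializes_of_eq (snd_sl_apply (X := X) g (genericPoint X.left))
  have h := congrArg (fun a : gen (G ⊗ X) ⟶ G => a.left (spt (G ⊗ X) _))
    (res_chi io (p := (sl X g).left (genericPoint X.left)) hg (specializes_of_eq (snd_generic (G := G) (X := X))))
  simp only [Over.comp_left, Scheme.Hom.comp_apply] at h
  rw [← h]
  refine ((genericPoint_specializes _).antisymm ?_).eq.symm
  rw [← chi_sl_spt io g hg]
  exact (IsLocalRing.specializes_closedPoint _).map (chi io _ hg).left.continuous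

/-- The product as a map to the generic point. -/
noncomputable def psi : gen (G ⊗ X) ⟶ gen G := (exists_lift _ (chi_gen_spt io)).choose

theorem psi_spec : psi io ≫ fromO G _ = chi io _ (specializes_of_eq (snd_generic (G := G) (X := X))) :=
  (exists_lift _ (chi_gen_spt io)).choose_spec.1

/-- At a generic slice point the product is defined as a map to the generic point. -/
theorem exists_psiAt (g : PT ⟶ G) :
    ∃ a : spO (G ⊗ X) ((sl X g).left (genericPoint X.left)) ⟶ gen G,
      res (genericPoint_specializes _) ≫ a = psi io ∧ stk (sl X g) _ ≫ a = io ≫ tr g := by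
  have hg := specializes_of_eq (snd_sl_apply (X := X) g (genericPoint X.left))
  obtain ⟨a, ha, -⟩ := exists_lift _ (chi_sl_spt io g hg)
  refine ⟨a, ?_, ?_⟩
  · rw [← cancel_mono (fromO G _), Category.assoc, ha, psi_spec, res_chi]
  · rw [← cancel_mono (fromO G _), Category.assoc, ha, sl_chi]

/-- The translation of the first factor. -/
noncomputable def tl (X : Over (Spec (CommRingCat.of k))) (h : PT ⟶ G) : G ⊗ X ⟶ G ⊗ X :=
  lift ((toUnit _ ≫ h) * fst G X) (snd G X)

omit [IsIntegral G.left] [IsIntegral X.left] [IsIntegral (G ⊗ X).left] [LocallyOfFiniteType G.hom] in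
theorem tl_comp (g h : PT ⟶ G) : tl X g ≫ tl X h = tl X (h * g) := by
  simp only [tl, comp_lift, MonObj.comp_mul, ← Category.assoc, comp_toUnit, lift_fst, lift_snd, _root_.mul_assoc]

omit [IsIntegral G.left] [IsIntegral X.left] [IsIntegral (G ⊗ X).left] [LocallyOfFiniteType G.hom] in
theorem tl_one : tl X (1 : PT ⟶ G) = 𝟙 _ := by
  apply CartesianMonoidalCategory.hom_ext <;> simp [tl]

omit [IsIntegral G.left] [IsIntegral X.left] [IsIntegral (G ⊗ X).left] [LocallyOfFiniteType G.hom] in
theorem tl_fix (h : PT ⟶ G) {ζ : X.left} {ζ' : (G ⊗ X).left} (h1 : (snd G X).left ζ' = ζ)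
    (h2 : ∀ w, (snd G X).left w = ζ → ζ' ⤳ w) : (tl X h).left ζ' = ζ' := by
  have hs : ∀ h : PT ⟶ G, ζ' ⤳ (tl X h).left ζ' := fun h => h2 _ (by
    rw [← Scheme.Hom.comp_apply, ← Over.comp_left, tl, lift_snd]; exact h1)
  refine (Specializes.antisymm ?_ (hs h)).eq
  have := (hs h⁻¹).map (tl X h).left.continuous
  rwa [← Scheme.Hom.comp_apply (tl X h⁻¹).left, ← Over.comp_left, tl_comp, mul_inv_cancel, tl_one] at this

theorem psi_tl (h : PT ⟶ G) (hξ : (tl X h).left (genericPoint (G ⊗ X).left) ⤳ genericPoint (G ⊗ X).left) :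
    stk (tl X h) _ ≫ res hξ ≫ psi io = psi io ≫ tr h := by
  have hsn := (specializes_of_eq (snd_generic (G := G) (X := X)))
  rw [← cancel_mono (fromO G _)]
  simp only [Category.assoc, psi_spec, tr_spec, MonObj.comp_mul]
  rw [chi, MonObj.comp_mul, MonObj.comp_mul]
  have e1 : stk (tl X h) (genericPoint (G ⊗ X).left) ≫ res hξ ≫ fromO _ _ ≫ fst G X =
      fromO _ _ ≫ tl X h ≫ fst G X := by
    rw [← Category.assoc (res hξ), res_fromO, ← Category.assoc, stk_fromO, Category.assoc]
  have e2 : stk (tl X h) (genericPoint (G ⊗ X).left) ≫ res hξ ≫ stk (snd G X) _ ≫ res hsn =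
      stk (snd G X) _ ≫ res hsn := by
    rw [← cancel_mono (fromO X _)]
    simp only [Category.assoc, res_fromO, stk_fromO]
    rw [← Category.assoc (res hξ), res_fromO, ← Category.assoc, stk_fromO, Category.assoc, tl, lift_snd]
  have e3 : stk (tl X h) (genericPoint (G ⊗ X).left) ≫ res hξ ≫ stk (snd G X) _ ≫ res hsn ≫ io ≫ fromO G _ =
      stk (snd G X) _ ≫ res hsn ≫ io ≫ fromO G _ := by
    simpa only [Category.assoc] using congrArg (· ≫ io ≫ fromO G _) e2
  rw [e3, e1, tl, lift_fst, MonObj.comp_mul, ← Category.assoc, comp_toUnit, ← Category.assoc (psi io), comp_toUnit,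
    _root_.mul_assoc]

/-- The restriction of the local ring at a fibre-generic point is invariant under translations. -/
theorem psi_invariant {ζ : X.left} {ζ' : (G ⊗ X).left} (h1 : (snd G X).left ζ' = ζ)
    (h2 : ∀ w, (snd G X).left w = ζ → ζ' ⤳ w) [ValuationRing ((G ⊗ X).left.presheaf.stalk ζ')] (h : PT ⟶ G)
    (b : G.left.functionField) (hb : b ∈ (stalkVal (G ⊗ X) ζ').comap (hm (psi io)).hom) :
    (hm (tr h)).hom b ∈ (stalkVal (G ⊗ X) ζ').comap (hm (psi io)).hom := by
  obtain ⟨o, ho⟩ := mem_stalkVal.mp hb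
  refine mem_stalkVal.mpr ?_
  have hξ : (tl X h).left (genericPoint (G ⊗ X).left) ⤳ genericPoint (G ⊗ X).left := by
    have := (genericPoint_specializes ((tl X h⁻¹).left (genericPoint (G ⊗ X).left))).map (tl X h).left.continuous
    rwa [← Scheme.Hom.comp_apply (tl X h⁻¹).left, ← Over.comp_left, tl_comp, mul_inv_cancel, tl_one] at this
  have hfix := tl_fix (X := X) h h1 h2
  refine ⟨(hm (stk (tl X h) ζ' ≫ res (specializes_of_eq hfix))).hom o, ?_⟩
  have e : res (genericPoint_specializes ζ') ≫ stk (tl X h) ζ' ≫ res (specializes_of_eq hfix) =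
      stk (tl X h) _ ≫ res hξ ≫ res (genericPoint_specializes ζ') := by
    rw [← Category.assoc, res_stk, Category.assoc, res_comp, res_comp]
  calc (hm (res (genericPoint_specializes ζ'))).hom ((hm (stk (tl X h) ζ' ≫ res (specializes_of_eq hfix))).hom o)
      = (hm (stk (tl X h) _ ≫ res hξ)).hom ((hm (res (genericPoint_specializes ζ'))).hom o) := by
        rw [← CommRingCat.comp_apply, ← hm_comp, e, ← Category.assoc, hm_comp, CommRingCat.comp_apply]
    _ = (hm (psi io)).hom ((hm (tr h)).hom b) := by
        rw [ho, ← CommRingCat.comp_apply, ← hm_comp, ← CommRingCat.comp_apply, ← hm_comp, Category.assoc, psi_tl]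

/-- The product is not defined at the fibre-generic point when the model is not. -/
theorem psi_noExt {ζ : X.left} {ζ' : (G ⊗ X).left} (h1 : (snd G X).left ζ' = ζ) [IsSeparated G.hom]
    (hno : ¬ ∃ e : spO X ζ ⟶ G, res (genericPoint_specializes ζ) ≫ e = io ≫ fromO G _)
    (e : spO (G ⊗ X) ζ' ⟶ G) : res (genericPoint_specializes ζ') ≫ e ≠ psi io ≫ fromO G _ := by
  intro he
  haveI : G.left.IsSeparated := ⟨by rw [← terminal.comp_from G.hom]; infer_instance⟩
  obtain ⟨W, hgW, H, hW, hH, hH0⟩ := H23.RatExtend.extend (G ⊗ X).hom G.hom (psi io ≫ fromO G _).left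
    (Over.w (psi io ≫ fromO G _)) {ζ'} (fun p hp => by
      obtain rfl : p = ζ' := hp
      exact ⟨e.left, Over.w e, congrArg CommaMorphism.left he⟩)
  obtain ⟨g, hg⟩ := exists_sl_mem (G := G) (hW (Set.mem_singleton ζ'))
  rw [h1] at hg
  let e' : spO (G ⊗ X) ((sl X g).left ζ) ⟶ G := Over.homMk (W.fromSpecStalkOfMem _ hg ≫ H) (by
    show (_ ≫ H) ≫ G.hom = (G ⊗ X).left.fromSpecStalk _ ≫ (G ⊗ X).hom
    rw [Category.assoc, hH, Scheme.Opens.fromSpecStalkOfMem_ι_assoc])
  have he' : res (genericPoint_specializes _) ≫ e' = psi io ≫ fromO G _ := by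
    refine Over.OverMorphism.ext ?_
    show Spec.map _ ≫ W.fromSpecStalkOfMem _ hg ≫ H = _
    rw [← Category.assoc, H23.RatExtend.specializes_comp_fromSpecStalkOfMem W _ hg hgW]
    exact hH0
  have hsp : (sl X g).left (genericPoint X.left) ⤳ (sl X g).left ζ :=
    (genericPoint_specializes ζ).map (sl X g).left.continuous
  obtain ⟨a, ha1, ha2⟩ := exists_psiAt io g
  have hp : res hsp ≫ e' = a ≫ fromO G _ := lift_ext (by
    rw [← Category.assoc, res_comp, ← Category.assoc, ha1]; exact he')
  refine hno ⟨(toUnit _ ≫ g⁻¹) * (stk (sl X g) ζ ≫ e'), ?_⟩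
  rw [MonObj.comp_mul, ← Category.assoc, comp_toUnit, ← Category.assoc, res_stk, Category.assoc, hp,
    ← Category.assoc, ha2, Category.assoc, tr_spec, MonObj.comp_mul, ← Category.assoc, comp_toUnit,
    GrpObj.comp_inv, inv_mul_cancel_left]

/-- If all translations preserve the local ring of the model at `ζ`, the product carries it into the local ring at the
fibre-generic point. -/
theorem psi_mem {ζ : X.left} {ζ' : (G ⊗ X).left} (h1 : (snd G X).left ζ' = ζ)
    (h2 : ∀ w, (snd G X).left w = ζ → ζ' ⤳ w) [ValuationRing ((G ⊗ X).left.presheaf.stalk ζ')]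
    (b : G.left.functionField)
    (hb : ∀ h : PT ⟶ G, ∃ o, (hm (res (Y := X) (genericPoint_specializes ζ))).hom o = (hm io).hom ((hm (tr h)).hom b)) :
    (hm (psi io)).hom b ∈ stalkVal (G ⊗ X) ζ' := by
  by_cases hb0 : (hm (psi io)).hom b = 0
  · rw [hb0]; exact zero_mem _
  rcases ValuationRing.isInteger_or_isInteger ((G ⊗ X).left.presheaf.stalk ζ') ((hm (psi io)).hom b) with h | ⟨v, hv⟩
  · exact h
  by_cases hu : IsUnit v
  · obtain ⟨v, rfl⟩ := hu
    refine mem_stalkVal.mpr ⟨(v⁻¹ : _ˣ), ?_⟩
    rw [hm_res]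
    show algebraMap ((G ⊗ X).left.presheaf.stalk ζ') (G ⊗ X).left.functionField _ = _
    rw [map_units_inv, hv, inv_inv]
  exfalso
  set f := (hm (psi io)).hom b with hf
  have hf0 : f ≠ 0 := hb0
  obtain ⟨W, hW, s, rfl⟩ := (G ⊗ X).left.presheaf.exists_germ_eq v
  obtain ⟨g, hg⟩ := exists_sl_mem (G := G) hW
  rw [h1] at hg
  set q := (sl X g).left ζ with hq
  have hηq : ζ' ⤳ q := h2 q (snd_sl_apply g ζ)
  set uq := ((G ⊗ X).left.presheaf.germ W q hg).hom s with huq
  have huq' : ¬ IsUnit uq := fun hunit => hu (by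
    have := hunit.map ((G ⊗ X).left.presheaf.stalkSpecializes hηq).hom
    rwa [huq, ← CommRingCat.comp_apply, TopCat.Presheaf.germ_stalkSpecializes] at this)
  have hsp : (sl X g).left (genericPoint X.left) ⤳ q := (genericPoint_specializes ζ).map (sl X g).left.continuous
  obtain ⟨a, ha1, ha2⟩ := exists_psiAt io g
  let p := (sl X g).left (genericPoint X.left)
  have e1 : (hm a).hom b * (hm (res hsp)).hom uq = 1 := by
    refine IsFractionRing.injective ((G ⊗ X).left.presheaf.stalk p) (G ⊗ X).left.functionField ?_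
    have ea : ∀ z, algebraMap ((G ⊗ X).left.presheaf.stalk p) (G ⊗ X).left.functionField z =
        (hm (res (Y := G ⊗ X) (genericPoint_specializes p))).hom z := fun z => by rw [hm_res]; rfl
    rw [map_one, map_mul, ea, ea, ← CommRingCat.comp_apply, ← hm_comp, ha1, ← hf, ← CommRingCat.comp_apply,
      ← hm_comp, res_comp, hm_res, huq, ← CommRingCat.comp_apply, TopCat.Presheaf.germ_stalkSpecializes]
    rw [show ((G ⊗ X).left.presheaf.germ W (genericPoint (G ⊗ X).left) _).hom s = f⁻¹ by
      rw [← hv]
      exact (TopCat.Presheaf.germ_stalkSpecializes_apply (G ⊗ X).left.presheaf hW (genericPoint_specializes ζ') s).symm]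
    exact mul_inv_cancel₀ hf0
  have e2 := congrArg (hm (stk (sl X g) _)).hom e1
  rw [map_mul, map_one, ← CommRingCat.comp_apply, ← hm_comp, ha2, ← CommRingCat.comp_apply, ← hm_comp,
    ← res_stk (sl X g) (genericPoint_specializes ζ), hm_comp, CommRingCat.comp_apply, hm_comp] at e2
  obtain ⟨o, ho⟩ := hb g
  rw [← ho, CommRingCat.comp_apply, ← map_mul] at e2
  rw [hm_res] at e2
  have e3 : o * (hm (stk (sl X g) ζ)).hom uq = 1 :=
    IsFractionRing.injective (X.left.presheaf.stalk ζ) X.left.functionField (e2.trans (map_one _).symm)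
  have hunit : IsUnit ((hm (stk (sl X g) ζ)).hom uq) := IsUnit.of_mul_eq_one_right _ e3
  rw [hm_stk] at hunit
  exact huq' (IsLocalHom.map_nonunit (f := ((sl X g).left.stalkMap ζ).hom) uq hunit)

end Groth.Agent.AGFLib.Rosen
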