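import Mathlib.RingTheory.AlgebraicIndependent.RankAndCardinality
import Mathlib.RingTheory.Valuation.ValuationSubring
import Mathlib.RingTheory.LocalRing.ResidueField.Basic

/-! Transcendence degree of residue fields of restricted valuation rings. -/

universe u

open IsLocalRing Cardinal

namespace Groth.Agent.AGFLib.Rosen

variable {k K L : Type u} [Field k] [Field K] [Field L] [Algebra k K] [Algebra k L]

/-- Elements of a valuation ring whose residues are algebraically independent. -/
def Indep (k : Type u) [Field k] [Algebra k L] (V : ValuationSubring L) {ι : Type} (x : ι → L) : Prop :=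
  (∀ i, x i ∈ V) ∧ ∀ P : MvPolynomial ι k, P ≠ 0 → MvPolynomial.aeval x P ∉ V.nonunits

variable (f : K →ₐ[k] L) (A : ValuationSubring L)

/-- The residues of a valuation ring and of its restriction. -/
theorem exists_indep_comap (hk : ∀ a : k, algebraMap k L a ∈ A) {a b c : ℕ} (ha : Algebra.trdeg k K = a)
    (hb : Algebra.trdeg k L = b) {y : Fin c → L} (hy : Indep k A y) {r : ℕ} (hr : r + b ≤ a + c) :
    ∃ x : Fin r → K, Indep k (A.comap f.toRingHom) x := by
  classical
  let B : ValuationSubring K := A.comap f.toRingHom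
  have hkB : ∀ a : k, algebraMap k K a ∈ B := fun a => by
    show f (algebraMap k K a) ∈ A
    rw [f.commutes]; exact hk a
  let φ : B →+* A := (f.toRingHom.comp B.subtype).codRestrict A.toSubring fun z => z.2
  haveI hφ : IsLocalHom φ := ⟨fun z hz => by
    obtain ⟨⟨w, hw⟩, hzw⟩ := hz.exists_right_inv
    have h1 : f (z : K) * w = 1 := congrArg Subtype.val hzw
    have h2 : f (z : K)⁻¹ = w := by rw [map_inv₀]; exact inv_eq_of_mul_eq_one_right h1
    have hz0 : (z : K) ≠ 0 := fun h => by rw [h, map_zero, zero_mul] at h1; exact zero_ne_one h1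
    refine IsUnit.of_mul_eq_one (⟨(z : K)⁻¹, ?_⟩ : B) (Subtype.ext (mul_inv_cancel₀ hz0))
    show f (z : K)⁻¹ ∈ A
    rw [h2]; exact hw⟩
  letI : Algebra k A := ((algebraMap k L).codRestrict A.toSubring hk).toAlgebra
  letI : Algebra k B := ((algebraMap k K).codRestrict B.toSubring hkB).toAlgebra
  letI : Algebra (ResidueField B) (ResidueField A) := (ResidueField.map φ).toAlgebra
  haveI : IsScalarTower k (ResidueField B) (ResidueField A) := IsScalarTower.of_algebraMap_eq fun t => by
    show residue A _ = ResidueField.map φ (residue B _)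
    rw [ResidueField.map_residue]
    exact congrArg (residue A) (Subtype.ext (f.commutes t).symm)
  letI : Algebra K L := f.toRingHom.toAlgebra
  haveI : IsScalarTower k K L := IsScalarTower.of_algebraMap_eq fun t => (f.commutes t).symm
  -- independent residues lift to independent elements
  have hlift : Algebra.trdeg (ResidueField B) (ResidueField A) ≤ Algebra.trdeg K L := by
    obtain ⟨s, hs⟩ := exists_isTranscendenceBasis (ResidueField B) (ResidueField A)
    choose z hz using fun i : s => residue_surjective (R := A) i.1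
    refine le_trans (le_of_eq hs.cardinalMk_eq_trdeg.symm)
      (AlgebraicIndependent.cardinalMk_le_trdeg (x := fun i => (z i : L)) ?_)
    rw [algebraicIndependent_iff]
    intro P hP
    by_contra hP0
    obtain ⟨m, hm, hmax⟩ := P.support.exists_max_image (fun m => B.valuation (P.coeff m))
      (MvPolynomial.support_nonempty.mpr hP0)
    have hm0 : P.coeff m ≠ 0 := MvPolynomial.mem_support_iff.mp hm
    obtain ⟨Q, hQ⟩ : ∃ Q : MvPolynomial s B, MvPolynomial.map B.subtype Q = MvPolynomial.C (P.coeff m)⁻¹ * P := by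
      refine MvPolynomial.mem_range_map_iff_coeffs_subset.mpr fun v hv => ?_
      obtain ⟨j, -, rfl⟩ := MvPolynomial.mem_coeffs_iff.mp hv
      refine ⟨⟨_, (B.valuation_le_one_iff _).mp ?_⟩, rfl⟩
      show B.valuation (MvPolynomial.coeff j (MvPolynomial.C (P.coeff m)⁻¹ * P)) ≤ 1
      rw [MvPolynomial.coeff_C_mul, map_mul, map_inv₀, inv_mul_le_iff₀ (zero_lt_iff.mpr ((map_ne_zero _).mpr hm0)),
        mul_one]
      by_cases hj : j ∈ P.support
      · exact hmax j hj
      · rw [MvPolynomial.notMem_support_iff.mp hj, map_zero]; exact zero_le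
    have hQm : Q.coeff m = 1 := Subtype.ext (by
      show B.subtype (Q.coeff m) = 1
      rw [← MvPolynomial.coeff_map, hQ, MvPolynomial.coeff_C_mul, inv_mul_cancel₀ hm0])
    have h0 : MvPolynomial.eval₂ φ z Q = 0 := Subtype.ext (by
      show A.subtype (MvPolynomial.eval₂ φ z Q) = 0
      rw [MvPolynomial.eval₂_comp_left A.subtype φ z Q]
      show MvPolynomial.eval₂ (f.toRingHom.comp B.subtype) (fun i => (z i : L)) Q = 0
      rw [← MvPolynomial.eval₂_map, hQ, MvPolynomial.eval₂_mul]
      rw [show MvPolynomial.eval₂ f.toRingHom (fun i => (z i : L)) P = MvPolynomial.aeval (fun i => (z i : L)) P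
        from rfl, hP, mul_zero])
    have h1 := congrArg (residue A) h0
    rw [map_zero, MvPolynomial.eval₂_comp_left (residue A) φ z Q] at h1
    have h2 : MvPolynomial.aeval (fun i : s => i.1) (MvPolynomial.map (residue B) Q) = 0 := by
      rw [MvPolynomial.aeval_def, MvPolynomial.eval₂_map, ← h1]
      congr 1
      exact funext fun i => (hz i).symm
    have h3 := congrArg (MvPolynomial.coeff m) (algebraicIndependent_iff.mp hs.1 _ h2)
    rw [MvPolynomial.coeff_map, hQm, map_one, MvPolynomial.coeff_zero] at h3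
    exact one_ne_zero h3
  have hKL := trdeg_add_eq k K (A := L)
  rw [ha, hb] at hKL
  obtain ⟨t, ht⟩ := Cardinal.lt_aleph0.mp (lt_of_le_of_lt (le_add_self.trans_eq hKL) (nat_lt_aleph0 b))
  rw [ht, ← Nat.cast_add, Nat.cast_inj] at hKL
  obtain ⟨t', ht'⟩ := Cardinal.lt_aleph0.mp (lt_of_le_of_lt (hlift.trans_eq ht) (nat_lt_aleph0 t))
  have htt : t' ≤ t := by
    rw [ht, ht'] at hlift; exact_mod_cast hlift
  have hc : (c : Cardinal.{u}) ≤ Algebra.trdeg k (ResidueField A) := by
    have h : AlgebraicIndependent k (fun i => residue A ⟨y i, hy.1 i⟩) := algebraicIndependent_iff.mpr fun P hP => by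
      by_contra hP0
      refine hy.2 P hP0 ?_
      have e : (MvPolynomial.aeval (fun i => (⟨y i, hy.1 i⟩ : A)) P : A).1 = MvPolynomial.aeval y P := by
        rw [MvPolynomial.aeval_def, MvPolynomial.aeval_def]
        exact MvPolynomial.eval₂_comp_left A.subtype _ _ P
      rw [← e, ValuationSubring.coe_mem_nonunits_iff, ← residue_eq_zero_iff, ← hP, MvPolynomial.aeval_def,
        MvPolynomial.eval₂_comp_left]
      rfl
    simpa using h.lift_cardinalMk_le_trdeg
  rw [← trdeg_add_eq k (ResidueField B) (A := ResidueField A), ht'] at hc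
  have hrB : (r : Cardinal.{u}) ≤ Algebra.trdeg k (ResidueField B) := by
    rcases lt_or_ge (Algebra.trdeg k (ResidueField B)) ℵ₀ with h | h
    · obtain ⟨q, hq⟩ := Cardinal.lt_aleph0.mp h
      rw [hq, ← Nat.cast_add, Nat.cast_le] at hc
      rw [hq, Nat.cast_le]
      omega
    · exact (nat_lt_aleph0 r).le.trans h
  obtain ⟨s, hs⟩ := exists_isTranscendenceBasis k (ResidueField B)
  rw [← hs.cardinalMk_eq_trdeg] at hrB
  obtain ⟨e⟩ : Nonempty (Fin r ↪ s) := by
    rw [← Cardinal.lift_mk_le']
    simpa using hrB
  choose z hz using fun i => residue_surjective (R := B) (e i).1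
  refine ⟨fun i => (z i : K), fun i => (z i).2, fun P hP => ?_⟩
  have e' : (MvPolynomial.aeval z P : B).1 = MvPolynomial.aeval (fun i => (z i : K)) P := by
    rw [MvPolynomial.aeval_def, MvPolynomial.aeval_def]
    exact MvPolynomial.eval₂_comp_left B.subtype _ _ P
  rw [← e', ValuationSubring.coe_mem_nonunits_iff, ← residue_eq_zero_iff, MvPolynomial.aeval_def,
    MvPolynomial.eval₂_comp_left]
  intro h0
  refine hP (algebraicIndependent_iff.mp (hs.1.comp e e.injective) P ?_)
  rw [← h0, MvPolynomial.aeval_def]
  congr 1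
  exact funext fun i => (hz i).symm

end Groth.Agent.AGFLib.Rosen
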