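import Groth.Agent.AGFLib.Rosen.Model
import Groth.Agent.AGFLib.Rosen.Mult
import Groth.Agent.AGFLib.Rosen.Val
import Groth.Agent.Proj16.Centre
import Groth.Agent.Neron6.BirOpen
import Groth.Agent.H23.RedSub

/-! A divisor without centre on the group, and the invariant divisor it induces. -/

set_option backward.isDefEq.respectTransparency false
set_option backward.isDefEq.respectTransparency.types false
set_option linter.style.haveILetI false
set_option maxHeartbeats 1000000

universe u

open CategoryTheory Limits AlgebraicGeometry MonoidalCategory CartesianMonoidalCategory IsLocalRing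
open scoped MonObj

namespace Groth.Agent.AGFLib.Rosen

open H23.RatPoint

variable {k : Type u} [Field k]

section Deg

variable {X : Over (Spec (CommRingCat.of k))} [IsIntegral X.left] [LocallyOfFiniteType X.hom]

theorem deg_add_one_iff (ζ : X.left) :
    VarDim.deg X.hom ζ + 1 = VarDim.deg X.hom (genericPoint X.left) ↔ ringKrullDim (X.left.presheaf.stalk ζ) = 1 := by
  obtain ⟨b, hb, ⟨w, hw, hwb⟩, hle⟩ := VarDim.exists_deg_add_stalk X.hom ζ
  have h1 := hle _ (genericPoint_specializes ζ)
  have h2 := VarDim.deg_le_of_specializes X.hom (genericPoint_specializes w)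
  rw [hb]
  constructor
  · intro h
    have : b = 1 := by omega
    rw [this]; rfl
  · intro h
    have : b = 1 := by exact_mod_cast h
    omega

theorem isDVR_of_deg (ζ : X.left) [IsIntegrallyClosed (X.left.presheaf.stalk ζ)]
    (h : VarDim.deg X.hom ζ + 1 = VarDim.deg X.hom (genericPoint X.left)) :
    IsDiscreteValuationRing (X.left.presheaf.stalk ζ) := by
  haveI : IsLocallyNoetherian X.left := LocallyOfFiniteType.isLocallyNoetherian X.hom
  exact CDiv6.isDVR_of_dim_eq_one _ ((deg_add_one_iff ζ).mp h)

end Deg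

variable [IsAlgClosed k] {G : Over (Spec (CommRingCat.of k))} [IsIntegral G.left] [LocallyOfFiniteType G.hom]

/-- A divisor on a model of the function field of a non-proper variety, without centre on it. -/
theorem exists_noExt [IsSeparated G.hom] [QuasiCompact G.hom] (hns : ¬ IsProper G.hom) :
    ∃ (X : Over (Spec (CommRingCat.of k))) (_ : IsIntegral X.left) (_ : LocallyOfFiniteType X.hom)
      (io : gen X ≅ gen G) (ζ : X.left), IsIntegrallyClosed (X.left.presheaf.stalk ζ) ∧
      VarDim.deg X.hom ζ + 1 = VarDim.deg G.hom (genericPoint G.left) ∧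
      ¬ ∃ e : spO X ζ ⟶ G, res (genericPoint_specializes ζ) ≫ e = io.hom ≫ fromO G _ := by
  classical
  haveI : G.left.IsSeparated := ⟨by rw [← terminal.comp_from G.hom]; infer_instance⟩
  obtain ⟨R, y, hy, hdom, hno⟩ : ∃ (R : ValuationSubring G.left.functionField) (y : (Spec (CommRingCat.of k) : Scheme.{u}))
      (hy : G.hom (genericPoint G.left) ⤳ y), Proj16.Dominates G.hom R hy ∧ ∀ x, ¬ Proj16.IsCentre R x := by
    by_contra hcon
    push Not at hcon
    exact hns (Proj16.isProper_of_hasCentres G.hom fun R y hy hd => hcon R y hy hd)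
  have hk : ∀ a, (cst G (genericPoint G.left)).hom a ∈ R := fun a => by
    have h : cst G (genericPoint G.left) = Spec.preimage ((Spec (CommRingCat.of k)).fromSpecStalk y) ≫
        Proj16.toFunctionField G.hom hy := Spec.map_injective (by
      rw [map_cst, Spec.map_comp, Spec.map_preimage, Proj16.specMap_toFunctionField])
    rw [h]
    exact hdom.1 _
  haveI : CompactSpace G.left := QuasiCompact.compactSpace_of_compactSpace G.hom
  let 𝒰 := G.left.affineCover.finiteSubcover
  let U : 𝒰.I₀ → G.left.Opens := fun i => (𝒰.f i).opensRange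
  have hU : ∀ i, IsAffineOpen (U i) := fun i => isAffineOpen_opensRange (𝒰.f i)
  have hUg : ∀ x : G.left, ∃ i, x ∈ U i := fun x => ⟨_, 𝒰.covers x⟩
  have hc : ∀ i, genericPoint G.left ∈ U i → ∀ h, ∃ c : Γ(G.left, U i),
      (G.left.presheaf.germ (U i) (genericPoint G.left) h).hom c ∉ R := fun i _ h => by
    by_contra hcon
    push Not at hcon
    let ρ : Γ(G.left, U i) ⟶ CommRingCat.of R :=
      CommRingCat.ofHom ((G.left.presheaf.germ (U i) _ h).hom.codRestrict R.toSubring hcon)
    refine hno _ (Proj16.isCentre_of_lift R (Spec.map ρ ≫ (hU i).fromSpec) ?_)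
    rw [← Category.assoc, ← Spec.map_comp, ← (hU i).fromSpecStalk_eq_fromSpecStalk h]
    rfl
  have hmem : ∀ i, ∀ x ∈ U i, genericPoint G.left ∈ U i := fun i x hx =>
    (genericPoint_specializes x).mem_open (U i).2 hx
  obtain ⟨i₁, hi₁⟩ := hUg (genericPoint G.left)
  let I : Finset 𝒰.I₀ := Finset.univ.filter fun i => genericPoint G.left ∈ U i
  have hI : ∀ i ∈ I, genericPoint G.left ∈ U i := fun i hi => (Finset.mem_filter.mp hi).2
  choose c hc using fun i : I => hc i (hI i i.2) (hI i i.2)
  let e : I → G.left.functionField := fun i => ((G.left.presheaf.germ (U i) _ (hI i i.2)).hom (c i))⁻¹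
  haveI : Nonempty I := ⟨⟨i₁, Finset.mem_filter.mpr ⟨Finset.mem_univ _, hi₁⟩⟩⟩
  obtain ⟨i₀, -, hi₀⟩ := Finset.univ.exists_max_image (fun i => R.valuation (e i)) Finset.univ_nonempty
  have heR : ∀ i, e i ∈ R := fun i => (R.mem_or_inv_mem _).resolve_left (hc i)
  have he0 : ∀ i, e i ≠ 0 := fun i h => hc i (by rw [inv_eq_zero.mp h]; exact zero_mem R)
  let t := e i₀
  let S : Finset G.left.functionField := insert t (Finset.univ.image fun i => e i / t)
  have hS : ∀ s ∈ S, s ∈ R := by
    intro s hs
    rcases Finset.mem_insert.mp hs with rfl | hs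
    · exact heR i₀
    obtain ⟨i, -, rfl⟩ := Finset.mem_image.mp hs
    rw [← R.valuation_le_one_iff, map_div₀, div_le_one₀ (zero_lt_iff.mpr ((map_ne_zero _).mpr (he0 i₀)))]
    exact hi₀ i (Finset.mem_univ i)
  obtain ⟨X, hXi, hXa, hXl, io, hic, hreg, hXR⟩ := exists_model R hk S hS
  obtain ⟨a, ha⟩ := hreg t (Finset.mem_insert_self _ _)
  set gX := X.left.presheaf.germ ⊤ (genericPoint X.left) trivial with hgX
  have hau : ¬ IsUnit a := fun h => hc i₀ (by
    obtain ⟨v, rfl⟩ := h
    have h2 := hXR ((v⁻¹ : _ˣ) : Γ(X.left, ⊤))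
    rw [map_units_inv, ha, map_inv₀, hm_iso_hom] at h2
    rwa [inv_inv] at h2)
  obtain ⟨P, hP⟩ := Ideal.nonempty_minimalPrimes (I := Ideal.span {a}) fun h => hau (Ideal.span_singleton_eq_top.1 h)
  haveI := hP.1.1
  have haP : a ∈ P := hP.1.2 (Ideal.mem_span_singleton_self a)
  let p : PrimeSpectrum Γ(X.left, ⊤) := ⟨P, hP.1.1⟩
  let ζ := (isAffineOpen_top X.left).fromSpec p
  haveI : IsLocallyNoetherian X.left := LocallyOfFiniteType.isLocallyNoetherian X.hom
  haveI : IsNoetherianRing Γ(X.left, ⊤) := IsLocallyNoetherian.component_noetherian ⟨⊤, isAffineOpen_top X.left⟩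
  haveI : Nonempty ((⊤ : X.left.Opens) : Scheme.{u}) := ⟨⟨genericPoint X.left, trivial⟩⟩
  have hdim : ringKrullDim (X.left.presheaf.stalk ζ) = 1 := by
    rw [VarDim.ringKrullDim_stalk_fromSpec (isAffineOpen_top X.left), ← PrimeSpectrum.height_eq_orderHeight]
    have h1 := Ideal.height_le_one_of_isPrincipal_of_mem_minimalPrimes (Ideal.span {a}) P hP
    have h0 : P.height ≠ 0 := fun h => by
      rw [Ideal.height_eq_zero_iff, IsDomain.minimalPrimes_eq_singleton_bot] at h
      rw [h] at haP
      refine he0 i₀ ?_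
      rw [Ideal.mem_bot.1 haP, map_zero] at ha
      exact (map_eq_zero_iff _ (RingHom.injective (R := G.left.functionField) (hm io.hom).hom)).mp ha.symm
    show ((P.height : ℕ∞) : WithBot ℕ∞) = 1
    rw [le_antisymm h1 (Order.one_le_iff_ne_zero.2 h0)]
    rfl
  refine ⟨X, hXi, hXl, io, ζ, hic ζ, by rw [(deg_add_one_iff ζ).mpr hdim, deg_gen_congr io], ?_⟩
  rintro ⟨g, hg⟩
  obtain ⟨x, hx⟩ : ∃ x, g.left (spt X ζ) = x := ⟨_, rfl⟩
  obtain ⟨i, hxi⟩ := hUg x
  let i' : I := ⟨i, Finset.mem_filter.mpr ⟨Finset.mem_univ _, hmem i x hxi⟩⟩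
  obtain ⟨b, hb, -⟩ := exists_lift g hx
  let o := (hm b).hom ((G.left.presheaf.germ (U i) x hxi).hom (c i'))
  obtain ⟨u, hu⟩ := hreg (e i' / t) (Finset.mem_insert_of_mem (Finset.mem_image_of_mem _ (Finset.mem_univ i')))
  let v := (X.left.presheaf.germ ⊤ ζ trivial).hom (u * a)
  have hv : v ∈ maximalIdeal (X.left.presheaf.stalk ζ) := by
    rw [mem_maximalIdeal, mem_nonunits_iff]
    intro hvu
    have : IsUnit ((X.left.presheaf.germ ⊤ ζ trivial).hom a) := by
      rw [show v = _ from map_mul _ u a] at hvu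
      exact isUnit_of_mul_isUnit_right hvu
    rw [← Scheme.mem_basicOpen_top] at this
    have h' : p ∈ (isAffineOpen_top X.left).fromSpec ⁻¹ᵁ X.left.basicOpen a := this
    rw [(isAffineOpen_top X.left).fromSpec_preimage_basicOpen] at h'
    exact h' haP
  have hov : o * v = 1 := by
    refine IsFractionRing.injective (X.left.presheaf.stalk ζ) X.left.functionField ?_
    show (X.left.presheaf.stalkSpecializes (genericPoint_specializes ζ)).hom (o * v) = _
    rw [map_one, map_mul]
    have h1 : (X.left.presheaf.stalkSpecializes (genericPoint_specializes ζ)).hom v = (hm io.hom).hom (e i') := by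
      rw [← CommRingCat.comp_apply, TopCat.Presheaf.germ_stalkSpecializes, map_mul, hu, ha, ← map_mul,
        div_mul_cancel₀ _ (he0 i₀)]
    have h2 : (X.left.presheaf.stalkSpecializes (genericPoint_specializes ζ)).hom o = (hm io.hom).hom
        ((G.left.presheaf.germ (U i) _ (hmem i x hxi)).hom (c i')) := by
      have hbe : res (genericPoint_specializes ζ) ≫ b = io.hom ≫ res (genericPoint_specializes x) := by
        rw [← cancel_mono (fromO G x), Category.assoc, hb, hg, Category.assoc, res_fromO]
      rw [← hm_res, ← CommRingCat.comp_apply, ← hm_comp, hbe, hm_comp, CommRingCat.comp_apply, hm_res,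
        ← CommRingCat.comp_apply (G.left.presheaf.germ _ _ _), TopCat.Presheaf.germ_stalkSpecializes]
    rw [h1, h2, ← map_mul, mul_inv_cancel₀ (fun h => hc i' (by rw [h]; exact zero_mem R)), map_one]
  exact (mem_maximalIdeal _).mp hv (IsUnit.of_mul_eq_one_right _ hov)

section Invariant

theorem mem_of_dvr {O K : Type u} [CommRing O] [IsDomain O] [IsDiscreteValuationRing O] [Field K] [Algebra O K]
    [IsFractionRing O K] (V : ValuationSubring K) (hO : ∀ o, algebraMap O K o ∈ V) (hV : V ≠ ⊤) {w : K} (hw : w ∈ V) :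
    ∃ o, algebraMap O K o = w := by
  by_contra hcon
  rcases ValuationRing.isInteger_or_isInteger O w with ⟨o, ho⟩ | ⟨o, ho⟩
  · exact hcon ⟨o, ho⟩
  refine hV (eq_top_iff.mpr fun z _ => ?_)
  have ho' : algebraMap O K o = w⁻¹ := ho
  have ho0 : ¬ IsUnit o := fun h => by
    obtain ⟨v, rfl⟩ := h
    exact hcon ⟨(v⁻¹ : Oˣ), by rw [map_units_inv, ho', inv_inv]⟩
  obtain ⟨π, hπ⟩ := IsDiscreteValuationRing.exists_irreducible O
  obtain ⟨a, b, hb, rfl⟩ := IsFractionRing.div_surjective (A := O) z
  obtain ⟨j, hj⟩ := IsDiscreteValuationRing.associated_pow_irreducible (nonZeroDivisors.ne_zero hb) hπ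
  have hπo : π ∣ o := by
    rw [← Ideal.mem_span_singleton, ← hπ.maximalIdeal_eq]
    exact ho0
  obtain ⟨q, hq⟩ := hj.dvd.trans (pow_dvd_pow_of_dvd hπo j)
  have hb0 : algebraMap O K b ≠ 0 := IsFractionRing.to_map_ne_zero_of_mem_nonZeroDivisors hb
  have hw0 : w ≠ 0 := fun h => hcon ⟨0, by rw [map_zero, h]⟩
  have : algebraMap O K a / algebraMap O K b = algebraMap O K (a * q) * w ^ j := by
    rw [div_eq_iff hb0, mul_right_comm, ← map_mul, mul_assoc, mul_comm q b, ← hq, map_mul, map_pow, ho', mul_assoc,
      ← mul_pow, inv_mul_cancel₀ hw0, one_pow, mul_one]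
  rw [this]
  exact mul_mem (hO _) (pow_mem hw j)

variable [GrpObj G] [Smooth G.hom] [QuasiCompact G.hom]

omit [GrpObj G] [Smooth G.hom] [QuasiCompact G.hom] [IsIntegral G.left] [LocallyOfFiniteType G.hom] [IsAlgClosed k] in
theorem surjective_algebraMap_of_eq {X : Scheme.{u}} [IsIntegral X] {p : X} (h : p = genericPoint X) :
    Function.Surjective (algebraMap (X.presheaf.stalk p) X.functionField) := by
  subst h
  intro b
  exact ⟨b, by show (X.presheaf.stalkSpecializes _).hom b = b; rw [TopCat.Presheaf.stalkSpecializes_refl]; rfl⟩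

theorem deg_preimmersion {X Y : Over (Spec (CommRingCat.of k))} [LocallyOfFiniteType X.hom] [LocallyOfFiniteType Y.hom]
    (f : X ⟶ Y) [IsPreimmersion f.left] (x : X.left) : VarDim.deg X.hom x = VarDim.deg Y.hom (f.left x) := by
  haveI : LocallyOfFiniteType (f.left ≫ Y.hom) := by rw [Over.w f]; infer_instance
  haveI : LocallyOfFiniteType f.left := locallyOfFiniteType_of_comp f.left Y.hom
  rw [VarDim.deg_eq_add f.left Y.hom (Over.w f), VarDim.fdeg, VarDim.rdeg_preimmersion, map_zero, add_zero]

omit [GrpObj G] [Smooth G.hom] [QuasiCompact G.hom] [IsIntegral G.left] in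
theorem exists_indep_stalk {X : Over (Spec (CommRingCat.of k))} [IsIntegral X.left] [LocallyOfFiniteType X.hom]
    (x : X.left) [ValuationRing (X.left.presheaf.stalk x)] :
    letI := (cst X (genericPoint X.left)).hom.toAlgebra
    ∃ y : Fin (VarDim.deg X.hom x) → X.left.functionField, Indep k (stalkVal X x) y := by
  letI : Algebra k X.left.functionField := (cst X _).hom.toAlgebra
  letI : Algebra k (X.left.presheaf.stalk x) := (cst X x).hom.toAlgebra
  letI : Algebra k (X.left.residueField x) := (VarDim.resHom X.hom x).toAlgebra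
  obtain ⟨s, hs⟩ := exists_isTranscendenceBasis k (X.left.residueField x)
  obtain ⟨e⟩ : Nonempty (Fin (VarDim.deg X.hom x) ↪ s) := by
    rw [← Cardinal.lift_mk_le']
    have h := hs.cardinalMk_eq_trdeg.trans (VarDim.deg_eq_tdeg X.hom x).symm
    simp [h]
  choose z hz using fun i => residue_surjective (R := X.left.presheaf.stalk x) (e i).1
  haveI : IsScalarTower k (X.left.presheaf.stalk x) X.left.functionField :=
    IsScalarTower.of_algebraMap_eq fun c =>
      (RingHom.congr_fun (congrArg CommRingCat.Hom.hom (cst_hm (res (genericPoint_specializes x)))) c).symm.trans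
        (by rw [hm_res]; rfl)
  refine ⟨fun i => algebraMap (X.left.presheaf.stalk x) X.left.functionField (z i), fun i => ⟨z i, rfl⟩, fun P hP => ?_⟩
  show MvPolynomial.aeval (algebraMap (X.left.presheaf.stalk x) X.left.functionField ∘ z) P ∉ _
  rw [MvPolynomial.aeval_algebraMap_apply]
  have hu : IsUnit (MvPolynomial.aeval z P) := by
    by_contra hu
    refine hP (algebraicIndependent_iff.mp (hs.1.comp e e.injective) P ?_)
    have h0 : X.left.residue x (MvPolynomial.aeval z P) = 0 := (residue_eq_zero_iff _).mpr hu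
    rw [← h0, MvPolynomial.aeval_def, MvPolynomial.aeval_def]
    refine Eq.trans ?_ (MvPolynomial.eval₂_comp_left (X.left.residue x).hom _ z P).symm
    congr 1
    · exact resHom_eq x
    · exact funext fun i => (hz i).symm
  intro h
  obtain ⟨v, hv⟩ := hu
  rw [← hv] at h
  rw [ValuationSubring.mem_nonunits_iff_exists_mem_maximalIdeal] at h
  obtain ⟨h1, h2⟩ := h
  refine h2 (IsUnit.of_mul_eq_one ⟨algebraMap _ X.left.functionField ((v⁻¹ : (X.left.presheaf.stalk x)ˣ) : X.left.presheaf.stalk x), ⟨_, rfl⟩⟩ (Subtype.ext ?_))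
  show algebraMap _ X.left.functionField (v : X.left.presheaf.stalk x) * _ = 1
  rw [← map_mul, Units.mul_inv, map_one]

/-- The generic point of the fibres over a divisorial point. -/
theorem exists_fibre_point {X : Over (Spec (CommRingCat.of k))} [IsIntegral X.left] [LocallyOfFiniteType X.hom]
    [IsIntegral (G ⊗ X).left] [LocallyOfFiniteType (G ⊗ X).hom] {ζ : X.left}
    (hicX : IsIntegrallyClosed (X.left.presheaf.stalk ζ))
    (hdζ : VarDim.deg X.hom ζ + 1 = VarDim.deg G.hom (genericPoint G.left))
    (hn : VarDim.deg X.hom (genericPoint X.left) = VarDim.deg G.hom (genericPoint G.left)) :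
    ∃ ζ' : (G ⊗ X).left, (snd G X).left ζ' = ζ ∧ (∀ w, (snd G X).left w = ζ → ζ' ⤳ w) ∧
      IsDiscreteValuationRing ((G ⊗ X).left.presheaf.stalk ζ') ∧
      VarDim.deg (G ⊗ X).hom (genericPoint (G ⊗ X).left) =
        VarDim.deg G.hom (genericPoint G.left) + VarDim.deg G.hom (genericPoint G.left) ∧
      VarDim.deg (G ⊗ X).hom ζ' + 1 = VarDim.deg (G ⊗ X).hom (genericPoint (G ⊗ X).left) := by
  haveI := H23.EquidimFibres.geometricallyIntegral_of_isAlgClosed (V := G)
  -- the fibre-generic point over `ζ`
  obtain ⟨W, i, hi, hWr, hWrange⟩ := H23.RedSub.exists_reduced_subscheme X.left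
    (isClosed_closure (s := ({ζ} : Set X.left))).isLocallyClosed
  let D : Over (Spec (CommRingCat.of k)) := Over.mk (i ≫ X.hom)
  let iD : D ⟶ X := Over.homMk i rfl
  haveI : IsImmersion iD.left := hi
  haveI : IrreducibleSpace D.left := by
    have h : IsIrreducible (Set.range i) := by rw [hWrange]; exact isIrreducible_singleton.closure
    haveI := Subtype.irreducibleSpace h
    exact i.isEmbedding.toHomeomorph.symm.surjective.irreducibleSpace i.isEmbedding.toHomeomorph.symm.continuous
  haveI : IsReduced D.left := hWr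
  haveI : IsIntegral D.left := isIntegral_of_irreducibleSpace_of_isReduced _
  haveI : LocallyOfFiniteType D.hom := inferInstanceAs (LocallyOfFiniteType (i ≫ X.hom))
  haveI := H23.EquidimFibres.geometricallyIntegral_of_isAlgClosed (V := D)
  haveI := H23.RatExt.geometricallyIntegral_prod G D
  haveI hPi : IsIntegral (G ⊗ D).left := H23.MaxAbelian.isIntegral_of_geometricallyIntegral
  haveI : LocallyOfFiniteType (G ⊗ D).hom := by
    show LocallyOfFiniteType (pullback.fst G.hom D.hom ≫ G.hom); infer_instance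
  let j : G ⊗ D ⟶ G ⊗ X := G ◁ iD
  have hj : IsPullback j (snd G D) (snd G X) iD := by
    refine ⟨⟨whiskerLeft_snd _ _⟩, ⟨PullbackCone.IsLimit.mk _
      (fun c => lift (c.fst ≫ fst G X) c.snd) (fun c => ?_) (fun c => lift_snd _ _) (fun c m h₁ h₂ => ?_)⟩⟩
    · apply CartesianMonoidalCategory.hom_ext
      · rw [Category.assoc, whiskerLeft_fst, lift_fst]
      · rw [Category.assoc, whiskerLeft_snd, lift_snd_assoc, c.condition]
    · apply CartesianMonoidalCategory.hom_ext
      · rw [lift_fst, ← h₁, Category.assoc, whiskerLeft_fst]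
      · rw [lift_snd]; exact h₂
  haveI : IsPreimmersion j.left := by
    haveI : IsImmersion j.left := MorphismProperty.of_isPullback (hj.map (Over.forget _)).flip hi
    infer_instance
  set ζ' := j.left (genericPoint (G ⊗ D).left) with hζ'
  have hsp : ∀ w, (snd G X).left w ∈ closure ({ζ} : Set X.left) → ζ' ⤳ w := fun w hw => by
    rw [← hWrange] at hw
    obtain ⟨d, hd⟩ := hw
    obtain ⟨z, hz, -⟩ := Scheme.exists_preimage_of_isPullback (hj.map (Over.forget _)) w d hd.symm
    rw [← hz]
    exact (genericPoint_specializes (α := (G ⊗ D).left) z).map j.left.continuous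
  have h1 : (snd G X).left ζ' = ζ := by
    refine (Specializes.antisymm ?_ ?_).eq
    · have := (hsp ((sl X (1 : 𝟙_ (Over (Spec (CommRingCat.of k))) ⟶ G)).left ζ) (by
        rw [snd_sl_apply]; exact subset_closure (Set.mem_singleton ζ))).map (snd G X).left.continuous
      rwa [snd_sl_apply] at this
    · rw [specializes_iff_mem_closure, ← hWrange]
      exact ⟨(snd G D).left (genericPoint (G ⊗ D).left), by
        rw [hζ', ← Scheme.Hom.comp_apply j.left, ← Over.comp_left, whiskerLeft_snd]; rfl⟩
  have h2 : ∀ w, (snd G X).left w = ζ → ζ' ⤳ w := fun w hw => hsp w (by rw [hw]; exact subset_closure (Set.mem_singleton ζ))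
  -- degrees
  have hdD : VarDim.deg D.hom (genericPoint D.left) = VarDim.deg X.hom ζ := by
    rw [deg_preimmersion iD]
    congr 1
    refine (Specializes.antisymm ?_ ?_).eq
    · obtain ⟨z, hz⟩ : ζ ∈ Set.range i := hWrange ▸ subset_closure (Set.mem_singleton ζ)
      exact hz ▸ (genericPoint_specializes (α := D.left) z).map i.continuous
    · rw [specializes_iff_mem_closure, ← hWrange]
      exact ⟨_, rfl⟩
  have hdζ' := FibrePts.deg_prod (Z := G) (Y := D)
  rw [deg_preimmersion j, hdD, ← hζ'] at hdζ'
  have hdT : VarDim.deg (G ⊗ X).hom (genericPoint (G ⊗ X).left) ≤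
      VarDim.deg G.hom (genericPoint G.left) + VarDim.deg X.hom (genericPoint X.left) := by
    haveI : LocallyOfFiniteType (fst G X).left := MorphismProperty.pullback_fst (P := @LocallyOfFiniteType) G.hom X.hom inferInstance
    let g : 𝟙_ (Over (Spec (CommRingCat.of k))) ⟶ G := 1
    obtain ⟨x', -, -, hfx, hle⟩ := VarDim.exists_fdeg_ge (k := k) (fst G X).left G.hom
      (genericPoint_specializes ((sl X g).left (genericPoint X.left)))
    rw [fst_sl_apply] at hfx
    have h3 := VarDim.deg_map_le (sl X g).left (G ⊗ X).hom (Over.w (sl X g)) ((snd G X).left x')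
    rw [← eq_sl hfx] at h3
    have h4 := VarDim.deg_le_of_specializes X.hom (genericPoint_specializes ((snd G X).left x'))
    have h5 := VarDim.deg_eq_add (fst G X).left G.hom (Over.w (fst G X)) (genericPoint (G ⊗ X).left)
    have h6 := VarDim.deg_eq_add (fst G X).left G.hom (Over.w (fst G X)) x'
    have h7 := VarDim.deg_le_of_specializes G.hom (genericPoint_specializes ((fst G X).left (genericPoint (G ⊗ X).left)))
    omega
  have hne : ζ' ≠ genericPoint (G ⊗ X).left := fun h => by
    rw [h, snd_generic] at h1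
    rw [← h1, hn] at hdζ
    omega
  have hlt : VarDim.deg (G ⊗ X).hom ζ' < VarDim.deg (G ⊗ X).hom (genericPoint (G ⊗ X).left) :=
    lt_of_le_of_ne (VarDim.deg_le_of_specializes (G ⊗ X).hom (genericPoint_specializes ζ'))
      fun h => hne (VarDim.eq_of_specializes_of_deg_le (G ⊗ X).hom (genericPoint_specializes ζ') h.ge).symm
  haveI : Smooth (snd G X).left := MorphismProperty.pullback_snd (P := @Smooth) G.hom X.hom ‹_›
  haveI : IsIntegrallyClosed ((G ⊗ X).left.presheaf.stalk ζ') :=
    ((S4989.result (snd G X).left ζ' (by rw [Scheme.Hom.smoothLocus_eq_top]; trivial)).2.2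
      (show IsDomain (X.left.presheaf.stalk ((snd G X).left ζ')) ∧ IsIntegrallyClosed (X.left.presheaf.stalk ((snd G X).left ζ')) from
        ⟨inferInstance, by rw [h1]; exact hicX⟩)).2
  haveI := isDVR_of_deg ζ' (by omega)
  exact ⟨ζ', h1, h2, inferInstance, by omega, by omega⟩

/-- A divisor on a model of the function field invariant under all translations. -/
theorem exists_invariant (hns : ¬ IsProper G.hom) :
    ∃ (Y : Over (Spec (CommRingCat.of k))) (_ : IsIntegral Y.left) (_ : IsAffine Y.left)
      (_ : LocallyOfFiniteType Y.hom) (io : gen Y ≅ gen G) (ζ : Y.left),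
      IsDiscreteValuationRing (Y.left.presheaf.stalk ζ) ∧
      VarDim.deg Y.hom ζ + 1 = VarDim.deg G.hom (genericPoint G.left) ∧
      ∀ (h : 𝟙_ (Over (Spec (CommRingCat.of k))) ⟶ G) (b : G.left.functionField),
        (∃ o, (hm (res (Y := Y) (genericPoint_specializes ζ))).hom o = (hm io.hom).hom b) →
        ∃ o, (hm (res (Y := Y) (genericPoint_specializes ζ))).hom o = (hm io.hom).hom ((hm (tr h)).hom b) := by
  classical
  haveI := GrpSchLib.AntiAffine.isSeparated_grp G
  obtain ⟨X, hXi, hXl, io, ζ, hicX, hdζ, hno⟩ := exists_noExt (G := G) hns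
  have hn := deg_gen_congr io
  haveI := H23.EquidimFibres.geometricallyIntegral_of_isAlgClosed (V := G)
  haveI := H23.EquidimFibres.geometricallyIntegral_of_isAlgClosed (V := X)
  haveI := H23.RatExt.geometricallyIntegral_prod G X
  haveI hTi : IsIntegral (G ⊗ X).left := H23.MaxAbelian.isIntegral_of_geometricallyIntegral
  haveI : LocallyOfFiniteType (G ⊗ X).hom := by
    show LocallyOfFiniteType (pullback.fst G.hom X.hom ≫ G.hom); infer_instance
  obtain ⟨ζ', h1, h2, hdvr', hdT, hdζ'⟩ := exists_fibre_point (G := G) hicX hdζ hn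
  haveI := hdvr'
  -- the restricted valuation ring
  let A := stalkVal (G ⊗ X) ζ'
  let V := A.comap (hm (psi (G := G) io.hom)).hom
  letI : Algebra k G.left.functionField := (cst G _).hom.toAlgebra
  letI : Algebra k (G ⊗ X).left.functionField := (cst (G ⊗ X) _).hom.toAlgebra
  let f : G.left.functionField →ₐ[k] (G ⊗ X).left.functionField :=
    { (hm (psi (G := G) io.hom)).hom with
      commutes' := fun c => RingHom.congr_fun (congrArg CommRingCat.Hom.hom (cst_hm (psi (G := G) io.hom))) c }
  have hkA : ∀ a : k, algebraMap k (G ⊗ X).left.functionField a ∈ A := fun a =>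
    mem_stalkVal.mpr ⟨(cst (G ⊗ X) ζ').hom a,
      RingHom.congr_fun (congrArg CommRingCat.Hom.hom (cst_hm (res (genericPoint_specializes ζ')))) a⟩
  obtain ⟨y, hy⟩ := exists_indep_stalk (X := G ⊗ X) ζ'
  obtain ⟨x, hx⟩ := exists_indep_comap f A hkA (trdeg_functionField (X := G)) (trdeg_functionField (X := G ⊗ X)) hy
    (r := VarDim.deg G.hom (genericPoint G.left) - 1) (by omega)
  have hkV : ∀ a, (cst G (genericPoint G.left)).hom a ∈ V := fun a => by
    show f (algebraMap k _ a) ∈ A
    rw [f.commutes]; exact hkA a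
  obtain ⟨Y, hYi, hYa, hYl, jo, hicY, hreg, hYV⟩ := exists_model V hkV (Finset.univ.image x) (fun s hs => by
    obtain ⟨i, -, rfl⟩ := Finset.mem_image.mp hs
    exact hx.1 i)
  let V' : ValuationSubring Y.left.functionField := V.comap (hm jo.inv).hom
  let ρ : Γ(Y.left, ⊤) ⟶ CommRingCat.of V' :=
    CommRingCat.ofHom ((Y.left.presheaf.germ ⊤ (genericPoint Y.left) trivial).hom.codRestrict V'.toSubring hYV)
  let l := Spec.map ρ ≫ (isAffineOpen_top Y.left).fromSpec
  have hcentre := Proj16.isCentre_of_lift V' l (by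
    rw [← Category.assoc, ← Spec.map_comp, ← (isAffineOpen_top Y.left).fromSpecStalk_eq_fromSpecStalk trivial]
    rfl)
  set ζY := l (closedPoint V') with hζY
  -- independent residues at the centre
  have hge : VarDim.deg G.hom (genericPoint G.left) - 1 ≤ VarDim.deg Y.hom ζY := by
    letI : Algebra k Y.left.functionField := (cst Y _).hom.toAlgebra
    letI : Algebra k (Y.left.presheaf.stalk ζY) := (cst Y ζY).hom.toAlgebra
    letI : Algebra k (Y.left.residueField ζY) := (VarDim.resHom Y.hom ζY).toAlgebra
    choose a ha using fun i => hreg (x i) (Finset.mem_image_of_mem x (Finset.mem_univ i))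
    let z := fun i => Y.left.residue ζY ((Y.left.presheaf.germ ⊤ ζY trivial).hom (a i))
    have hz : AlgebraicIndependent k z := algebraicIndependent_iff.mpr fun P hP => by
      by_contra hP0
      refine hx.2 P hP0 ?_
      have hm0 : MvPolynomial.aeval (fun i => (Y.left.presheaf.germ ⊤ ζY trivial).hom (a i)) P ∈
          maximalIdeal (Y.left.presheaf.stalk ζY) := by
        rw [← residue_eq_zero_iff, ← hP, MvPolynomial.aeval_def, MvPolynomial.aeval_def]
        refine Eq.trans (MvPolynomial.eval₂_comp_left (residue _) _ _ P) ?_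
        congr 1
        exact (resHom_eq ζY).symm
      have h := hcentre.2 _ hm0
      rw [← ValuationSubring.mem_nonunits_iff] at h
      let χ : Y.left.presheaf.stalk ζY →+* G.left.functionField :=
        (hm jo.inv).hom.comp (algebraMap (Y.left.presheaf.stalk ζY) Y.left.functionField)
      have e : χ (MvPolynomial.aeval (fun i => (Y.left.presheaf.germ ⊤ ζY trivial).hom (a i)) P) =
          MvPolynomial.aeval x P := by
        rw [MvPolynomial.aeval_def, MvPolynomial.aeval_def, MvPolynomial.eval₂_comp_left]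
        congr 1
        · ext c
          show (hm jo.inv).hom ((Y.left.presheaf.stalkSpecializes _).hom ((cst Y ζY).hom c)) = (cst G _).hom c
          rw [← hm_res, ← CommRingCat.comp_apply, ← hm_comp, ← CommRingCat.comp_apply, cst_hm]
        · funext i
          show (hm jo.inv).hom ((Y.left.presheaf.stalkSpecializes _).hom
            ((Y.left.presheaf.germ ⊤ ζY trivial).hom (a i))) = x i
          rw [← CommRingCat.comp_apply (Y.left.presheaf.germ _ _ _), TopCat.Presheaf.germ_stalkSpecializes, ha,
            hm_iso_hom]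
      rw [← e]
      rw [ValuationSubring.mem_nonunits_iff_exists_mem_maximalIdeal] at h ⊢
      obtain ⟨hmem, hmax⟩ := h
      refine ⟨hmem, fun hu => hmax ?_⟩
      obtain ⟨⟨u, hu'⟩, hmul⟩ := hu.exists_right_inv
      refine IsUnit.of_mul_eq_one ⟨(hm jo.hom).hom u, show (hm jo.inv).hom _ ∈ V by rw [hm_iso_hom]; exact hu'⟩
        (Subtype.ext ?_)
      have h' := congrArg (fun t : V => (hm jo.hom).hom (t : G.left.functionField)) hmul
      simp only [MulMemClass.coe_mul, OneMemClass.coe_one, map_mul, map_one] at h'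
      rw [show (hm jo.hom).hom (χ _) = _ from hm_iso_inv jo _] at h'
      exact h'
    have := hz.lift_cardinalMk_le_trdeg
    rw [show Algebra.trdeg k (Y.left.residueField ζY) = (VarDim.deg Y.hom ζY : Cardinal.{u}) from
      (VarDim.deg_eq_tdeg Y.hom ζY).symm] at this
    simpa using this
  have hVtop : V' ≠ ⊤ := fun htop => by
    have hall : ∀ b, (hm (psi (G := G) io.hom)).hom b ∈ A := fun b => by
      have : (hm jo.hom).hom b ∈ V' := by rw [htop]; exact ValuationSubring.mem_top _
      have h : (hm jo.inv).hom ((hm jo.hom).hom b) ∈ V := this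
      rwa [hm_iso_hom] at h
    choose o ho using fun b => mem_stalkVal.mp (hall b)
    have hinj : Function.Injective (hm (res (Y := G ⊗ X) (genericPoint_specializes ζ'))).hom := by
      rw [hm_res]; exact IsFractionRing.injective ((G ⊗ X).left.presheaf.stalk ζ') (G ⊗ X).left.functionField
    let β : G.left.functionField →+* (G ⊗ X).left.presheaf.stalk ζ' :=
      { toFun := o
        map_one' := hinj (by rw [ho, map_one, map_one])
        map_zero' := hinj (by rw [ho, map_zero, map_zero])
        map_add' := fun a b => hinj (by rw [ho, map_add, map_add, ho, ho])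
        map_mul' := fun a b => hinj (by rw [ho, map_mul, map_mul, ho, ho]) }
    have hβ : CommRingCat.ofHom β ≫ hm (res (genericPoint_specializes ζ')) = hm (psi (G := G) io.hom) :=
      CommRingCat.hom_ext (RingHom.ext ho)
    let e : spO (G ⊗ X) ζ' ⟶ gen G := Over.homMk (Spec.map (CommRingCat.ofHom β)) (by
      show Spec.map _ ≫ (spO G _).hom = (spO (G ⊗ X) ζ').hom
      rw [← Spec.map_preimage (spO G (genericPoint G.left)).hom, ← Spec.map_preimage (spO (G ⊗ X) ζ').hom,
        ← Spec.map_comp]
      congr 1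
      ext c
      refine hinj ?_
      show (hm (res _)).hom (β ((cst G _).hom c)) = (hm (res _)).hom ((cst (G ⊗ X) ζ').hom c)
      rw [show (hm (res (genericPoint_specializes ζ'))).hom (β _) = _ from ho _, ← CommRingCat.comp_apply,
        ← CommRingCat.comp_apply, cst_hm, cst_hm])
    refine psi_noExt io.hom h1 hno (e ≫ fromO G _) ?_
    rw [← Category.assoc]
    congr 1
    refine Over.OverMorphism.ext ?_
    rw [← map_hm (psi (G := G) io.hom), ← hβ, Spec.map_comp, map_hm]
    rfl
  have hle : VarDim.deg Y.hom ζY + 1 ≤ VarDim.deg G.hom (genericPoint G.left) := by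
    rw [← deg_gen_congr jo]
    have hζYne : ζY ≠ genericPoint Y.left := fun h => by
      refine hVtop (eq_top_iff.mpr fun b _ => ?_)
      obtain ⟨c, rfl⟩ := surjective_algebraMap_of_eq h b
      exact hcentre.1 c
    have := lt_of_le_of_ne (VarDim.deg_le_of_specializes Y.hom (genericPoint_specializes ζY))
      fun h => hζYne (VarDim.eq_of_specializes_of_deg_le Y.hom (genericPoint_specializes ζY) h.ge).symm
    omega
  have hd : VarDim.deg Y.hom ζY + 1 = VarDim.deg G.hom (genericPoint G.left) := by omega
  haveI := hicY ζY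
  haveI hdvr := isDVR_of_deg ζY (by rw [hd, deg_gen_congr jo])
  refine ⟨Y, hYi, hYa, hYl, jo, ζY, hdvr, hd, ?_⟩
  rintro h b ⟨o, ho⟩
  have hb : b ∈ V := by
    have := hcentre.1 o
    rw [hm_res] at ho
    rw [show algebraMap (Y.left.presheaf.stalk ζY) Y.left.functionField o = _ from ho] at this
    have h' : (hm jo.inv).hom ((hm jo.hom).hom b) ∈ V := this
    rwa [hm_iso_hom] at h'
  have hb' := psi_invariant io.hom h1 h2 h b hb
  obtain ⟨o', ho'⟩ := mem_of_dvr V' hcentre.1 hVtop (w := (hm jo.hom).hom ((hm (tr h)).hom b))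
    (show (hm jo.inv).hom _ ∈ V by rw [hm_iso_hom]; exact hb')
  exact ⟨o', by rw [hm_res]; exact ho'⟩

end Invariant

end Groth.Agent.AGFLib.Rosen
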