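import Groth.Agent.AGFLib.Rosen.Act
import Groth.Agent.GrpSchLib.GLnHom
import Mathlib.RingTheory.Jacobson.Artinian
import Mathlib.RingTheory.Finiteness.NilpotentKer

/-! Jets at a closed point and the matrices of local isomorphisms on them. -/

set_option backward.isDefEq.respectTransparency false
set_option backward.isDefEq.respectTransparency.types false
set_option linter.style.haveILetI false
set_option maxHeartbeats 1000000
set_option synthInstance.maxHeartbeats 400000

universe u

open CategoryTheory Limits AlgebraicGeometry MonoidalCategory CartesianMonoidalCategory MonObj IsLocalRing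
open scoped MonObj TensorProduct

namespace Groth.Agent.AGFLib.Rosen

open H23.RatPoint GrpSchLib.Kunneth

variable {k : Type u} [Field k]

local notation "PT" => 𝟙_ (Over (Spec (CommRingCat.of k)))

/-- The jets of order `m` at a point. -/
abbrev Jet (Y : Over (Spec (CommRingCat.of k))) (y : Y.left) (m : ℕ) : Type u :=
  Y.left.presheaf.stalk y ⧸ maximalIdeal (Y.left.presheaf.stalk y) ^ (m + 1)

variable {Y : Over (Spec (CommRingCat.of k))} {y z x : Y.left} {m : ℕ}

/-- The quotient map onto jets. -/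
noncomputable abbrev qJet (Y : Over (Spec (CommRingCat.of k))) (y : Y.left) (m : ℕ) :
    Y.left.presheaf.stalk y →+* Jet Y y m := Ideal.Quotient.mk _

noncomputable instance instAlgebraJet : Algebra k (Jet Y y m) := ((qJet Y y m).comp (cst Y y).hom).toAlgebra

theorem hm_mem_maximal (E : spO Y y ⟶ spO Y z) (hE : E.left (spt Y y) = spt Y z) {a : Y.left.presheaf.stalk z}
    (ha : a ∈ maximalIdeal (Y.left.presheaf.stalk z)) : (hm E).hom a ∈ maximalIdeal (Y.left.presheaf.stalk y) := by
  rw [← map_hm E] at hE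
  have h := congrArg PrimeSpectrum.asIdeal hE
  exact (h.symm.le ha :)

/-- The map on jets. -/
noncomputable def jet (m : ℕ) (E : spO Y y ⟶ spO Y z) (hE : E.left (spt Y y) = spt Y z) :
    Jet Y z m →ₐ[k] Jet Y y m :=
  { Ideal.quotientMap _ (hm E).hom (by
      rw [← Ideal.map_le_iff_le_comap, Ideal.map_pow]
      exact Ideal.pow_right_mono ((Ideal.map_le_iff_le_comap (f := (hm E).hom) (K := maximalIdeal (Y.left.presheaf.stalk y))).mpr fun a ha => hm_mem_maximal E hE ha) _) with
    commutes' := fun c => congrArg (qJet Y y m) (RingHom.congr_fun (congrArg CommRingCat.Hom.hom (cst_hm E)) c) }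

theorem jet_mk (E : spO Y y ⟶ spO Y z) (hE : E.left (spt Y y) = spt Y z) (a : Y.left.presheaf.stalk z) :
    jet m E hE (qJet Y z m a) = qJet Y y m ((hm E).hom a) := rfl

theorem jet_comp (E : spO Y x ⟶ spO Y y) (hE : E.left (spt Y x) = spt Y y) (F : spO Y y ⟶ spO Y z)
    (hF : F.left (spt Y y) = spt Y z) :
    jet m (E ≫ F) ((spt_comp E F hE).trans hF) = (jet m E hE).comp (jet m F hF) := by
  refine AlgHom.ext fun a => ?_
  obtain ⟨a, rfl⟩ := Ideal.Quotient.mk_surjective a
  rw [AlgHom.comp_apply, jet_mk, jet_mk, jet_mk, hm_comp]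
  rfl

theorem jet_congr {E E' : spO Y y ⟶ spO Y z} (h : E = E') (hE : E.left (spt Y y) = spt Y z)
    (hE' : E'.left (spt Y y) = spt Y z) : jet m E hE = jet m E' hE' := by subst h; rfl

theorem jet_id : jet m (𝟙 (spO Y y)) rfl = AlgHom.id k _ := by
  refine AlgHom.ext fun a => ?_
  obtain ⟨a, rfl⟩ := Ideal.Quotient.mk_surjective a
  rw [jet_mk, hm_id]; rfl

/-- Functions to jets. -/
noncomputable def toJet (Y : Over (Spec (CommRingCat.of k))) (y : Y.left) (m : ℕ) : Fn Y →ₐ[k] Jet Y y m :=
  { (qJet Y y m).comp (Y.left.presheaf.germ ⊤ y trivial).hom with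
    commutes' := fun c => congrArg (qJet Y y m) (by rw [cst_eq_baseMap]; rfl) }

theorem toJet_surjective [IsAffine Y.left] (hy : IsClosed ({y} : Set Y.left)) : Function.Surjective (toJet Y y m) := by
  have hU := isAffineOpen_top Y.left
  set p := hU.primeIdealOf ⟨y, trivial⟩ with hp
  letI : Algebra Γ(Y.left, ⊤) (Y.left.presheaf.stalk y) := (Y.left.presheaf.germ ⊤ y trivial).hom.toAlgebra
  haveI : IsLocalization.AtPrime (Y.left.presheaf.stalk y) p.asIdeal := hU.isLocalization_stalk ⟨y, trivial⟩
  haveI : p.asIdeal.IsMaximal := by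
    rw [← PrimeSpectrum.isClosed_singleton_iff_isMaximal]
    have : ({p} : Set (PrimeSpectrum Γ(Y.left, ⊤))) = hU.fromSpec ⁻¹' {y} := by
      ext q
      rw [Set.mem_preimage, Set.mem_singleton_iff, Set.mem_singleton_iff]
      constructor
      · rintro rfl; rw [hp, hU.fromSpec_primeIdealOf]
      · intro h; exact hU.fromSpec.isOpenEmbedding.injective (h.trans (hU.fromSpec_primeIdealOf ⟨y, trivial⟩).symm)
    rw [this]
    exact hy.preimage hU.fromSpec.continuous
  intro b
  obtain ⟨a, rfl⟩ := (IsLocalization.AtPrime.equivQuotMaximalIdealPow p.asIdeal (Y.left.presheaf.stalk y) (m + 1)).surjective b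
  obtain ⟨a, rfl⟩ := Ideal.Quotient.mk_surjective a
  exact ⟨a, rfl⟩

theorem finite_jet [IsAffine Y.left] [LocallyOfFiniteType Y.hom] (hy : IsClosed ({y} : Set Y.left)) :
    Module.Finite k (Jet Y y m) := by
  haveI : Algebra.FiniteType k (Fn Y) := by
    refine RingHom.finiteType_algebraMap.1 ?_
    show (((Scheme.ΓSpecIso (CommRingCat.of k)).inv ≫ Y.hom.appTop).hom).FiniteType
    exact ((HasRingHomProperty.appTop (P := @LocallyOfFiniteType) Y.hom inferInstance).comp
      (RingHom.FiniteType.of_surjective _ (Scheme.ΓSpecIso (CommRingCat.of k)).symm.commRingCatIsoToRingEquiv.surjective))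
  haveI : Algebra.FiniteType k (Jet Y y m) :=
    Algebra.FiniteType.of_surjective (toJet Y y m) (toJet_surjective hy)
  haveI : IsNoetherianRing (Jet Y y m) := Algebra.FiniteType.isNoetherianRing k _
  have H : maximalIdeal (Y.left.presheaf.stalk y) ^ (m + 1) ≤ maximalIdeal (Y.left.presheaf.stalk y) ^ (0 + 1) :=
    Ideal.pow_le_pow_right (by omega)
  let f₀ : Jet Y y m →+* Jet Y y 0 := Ideal.Quotient.factor H
  let f : Jet Y y m →ₐ[k] Jet Y y 0 := { f₀ with commutes' := fun c => rfl }
  have hf : Function.Surjective f := Ideal.Quotient.factor_surjective H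
  haveI : Algebra.FiniteType k (Jet Y y 0) := Algebra.FiniteType.of_surjective f hf
  haveI : (maximalIdeal (Y.left.presheaf.stalk y) ^ (0 + 1)).IsMaximal := by
    rw [zero_add, pow_one]; infer_instance
  letI := Ideal.Quotient.field (maximalIdeal (Y.left.presheaf.stalk y) ^ (0 + 1))
  haveI : Module.Finite k (Jet Y y 0) := finite_of_finite_type_of_isJacobsonRing k _
  refine Module.finite_of_surjective_of_ker_le_nilradical f hf (fun a ha => ?_) (IsNoetherian.noetherian _)
  obtain ⟨a, rfl⟩ := Ideal.Quotient.mk_surjective a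
  have ha' : a ∈ maximalIdeal (Y.left.presheaf.stalk y) := by
    have := Ideal.Quotient.eq_zero_iff_mem.mp (show Ideal.Quotient.mk (maximalIdeal _ ^ (0 + 1)) a = 0 from ha)
    rwa [zero_add, pow_one] at this
  refine ⟨m + 1, ?_⟩
  rw [← map_pow, Ideal.zero_eq_bot, Ideal.mem_bot, Ideal.Quotient.eq_zero_iff_mem]
  exact Ideal.pow_mem_pow ha' _

/-- The scheme of jets. -/
noncomputable abbrev jetO (Y : Over (Spec (CommRingCat.of k))) (y : Y.left) (m : ℕ) : Over (Spec (CommRingCat.of k)) :=
  Over.mk (Spec.map (CommRingCat.ofHom (algebraMap k (Jet Y y m))))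

/-- The jets sit in the local scheme. -/
noncomputable def jetι (Y : Over (Spec (CommRingCat.of k))) (y : Y.left) (m : ℕ) : jetO Y y m ⟶ spO Y y :=
  Over.homMk (Spec.map (CommRingCat.ofHom (qJet Y y m))) (by
    show Spec.map _ ≫ (spO Y y).hom = Spec.map _
    rw [← Spec.map_preimage (spO Y y).hom, ← Spec.map_comp]
    rfl)

/-- Jets as functions. -/
noncomputable def jetFn (Y : Over (Spec (CommRingCat.of k))) (y : Y.left) (m : ℕ) : Jet Y y m ≃ₐ[k] Fn (jetO Y y m) :=
  AlgEquiv.ofRingEquiv (f := (Scheme.ΓSpecIso (CommRingCat.of (Jet Y y m))).symm.commRingCatIsoToRingEquiv) fun c =>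
    RingHom.congr_fun (congrArg CommRingCat.Hom.hom
      (Scheme.ΓSpecIso_inv_naturality (CommRingCat.ofHom (algebraMap k (Jet Y y m))))) c

/-- The jets of a morphism of local schemes, as functions. -/
theorem ev_jetι (E : spO Y y ⟶ spO Y z) (a : Fn Y) :
    ev (jetι Y y m ≫ E ≫ fromO Y z) a = jetFn Y y m (qJet Y y m ((hm E).hom ((Y.left.presheaf.germ ⊤ z trivial).hom a))) := by
  have key : (Y.left.fromSpecStalk z).appTop =
      Y.left.presheaf.germ ⊤ z trivial ≫ (Scheme.ΓSpecIso (Y.left.presheaf.stalk z)).inv := by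
    rw [Scheme.fromSpecStalk_appTop, show (homOfLE le_top : (⊤ : (Spec (Y.left.presheaf.stalk z)).Opens) ⟶ ⊤) = 𝟙 _ from rfl,
      op_id, CategoryTheory.Functor.map_id, Category.comp_id]
  rw [ev_apply, Over.comp_left, Over.comp_left, Scheme.Hom.comp_appTop, Scheme.Hom.comp_appTop, ← map_hm E,
    show (fromO Y z).left = Y.left.fromSpecStalk z from rfl, key,
    show (jetι Y y m).left = Spec.map (CommRingCat.ofHom (qJet Y y m)) from rfl]
  have nat : ∀ {R S : CommRingCat.{u}} (f : R ⟶ S) (r : R),
      (Spec.map f).appTop ((Scheme.ΓSpecIso R).inv r) = (Scheme.ΓSpecIso S).inv (f r) := fun {R S} f r =>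
    (RingHom.congr_fun (congrArg CommRingCat.Hom.hom (Scheme.ΓSpecIso_inv_naturality f)) r).symm
  simp only [Category.assoc, CommRingCat.comp_apply]
  exact (congrArg _ (nat (hm E) _)).trans (nat (CommRingCat.ofHom (qJet Y y m)) _)

/-- Functions on the point. -/
noncomputable def ptFn : Fn (PT) ≃+* k := (Scheme.ΓSpecIso (CommRingCat.of k)).commRingCatIsoToRingEquiv

/-- The value at a rational point. -/
noncomputable def vl {W : Over (Spec (CommRingCat.of k))} (w : PT ⟶ W) : Fn W →+* k :=
  ptFn.toRingHom.comp (ev w).toRingHom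

theorem ev_toUnit_comp {W P : Over (Spec (CommRingCat.of k))} (w : PT ⟶ W) (c : Fn W) :
    ev (toUnit P ≫ w) c = algebraMap k (Fn P) (vl w c) := by
  have h : ev w c = algebraMap k (Fn (PT)) (vl w c) := by
    show _ = (𝟙_ (Over (Spec (CommRingCat.of k)))).hom.appTop ((Scheme.ΓSpecIso (CommRingCat.of k)).inv (vl w c))
    show _ = (𝟙 (Spec (CommRingCat.of k)) : _ ⟶ _).appTop ((Scheme.ΓSpecIso (CommRingCat.of k)).inv _)
    rw [Scheme.Hom.id_appTop]
    exact ((Scheme.ΓSpecIso (CommRingCat.of k)).hom_inv_id_apply _).symm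
  rw [← ev_ev, h, AlgHom.commutes]

/-- The coordinates of a function on a product with a finite scheme are regular. -/
theorem exists_coord [IsAffine Y.left] [LocallyOfFiniteType Y.hom] (hy : IsClosed ({y} : Set Y.left))
    {W : Over (Spec (CommRingCat.of k))} [IsAffine W.left] {I : Type} [Finite I] (b : Module.Basis I k (Jet Y y m))
    (x : Fn (W ⊗ jetO Y y m)) :
    ∃ c : I → Fn W, ∀ (w : PT ⟶ W) i,
      vl w (c i) = b.repr ((jetFn Y y m).symm (ev (sl (jetO Y y m) w) x)) i := by
  haveI := finite_jet (m := m) hy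
  haveI : IsAffine (jetO Y y m).left := inferInstanceAs (IsAffine (Spec _))
  haveI : QuasiCompact W.hom := inferInstance
  haveI : IsSeparated W.hom := inferInstance
  haveI : QuasiCompact (jetO Y y m).hom := inferInstance
  haveI : IsSeparated (jetO Y y m).hom := inferInstance
  obtain ⟨t, rfl⟩ := (toProd_bijective W (jetO Y y m)).2 x
  refine ⟨fun i => TensorProduct.rid k (Fn W)
    (LinearMap.lTensor (Fn W) ((b.coord i).comp (jetFn Y y m).symm.toLinearMap) t), fun w i => ?_⟩
  induction t using TensorProduct.induction_on with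
  | zero => simp
  | tmul c e =>
    beta_reduce
    rw [LinearMap.lTensor_tmul, TensorProduct.rid_tmul, toProd, Algebra.TensorProduct.lift_tmul, map_mul, ev_ev, ev_ev,
      show sl (jetO Y y m) w ≫ fst W (jetO Y y m) = toUnit _ ≫ w from lift_fst _ _,
      show sl (jetO Y y m) w ≫ snd W (jetO Y y m) = 𝟙 _ from lift_snd _ _, ev_id, ev_toUnit_comp, ← Algebra.smul_def,
      map_smul (jetFn Y y m).symm, map_smul b.repr, Finsupp.smul_apply, smul_eq_mul, LinearMap.comp_apply, Algebra.smul_def, map_mul,
      AlgEquiv.toLinearMap_apply, Module.Basis.coord_apply]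
    rw [show vl w (algebraMap k (Fn W) (b.repr ((jetFn Y y m).symm e) i)) = b.repr ((jetFn Y y m).symm e) i by
      show ptFn ((ev w) (algebraMap k (Fn W) _)) = _
      rw [AlgHom.commutes]
      show (Scheme.ΓSpecIso (CommRingCat.of k)).hom ((𝟙 (Spec (CommRingCat.of k)) : _ ⟶ _).appTop _) = _
      rw [Scheme.Hom.id_appTop]
      exact (Scheme.ΓSpecIso (CommRingCat.of k)).inv_hom_id_apply _, mul_comm]
  | add s t hs ht => simp only [map_add, Finsupp.add_apply, hs, ht]

end Groth.Agent.AGFLib.Rosen
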