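import Groth.Agent.AGFLib.Rosen.Jets
import Groth.Agent.AGFLib.GLSmooth
import Groth.Agent.AGFLib.BorelExist
import Groth.Agent.AGFLib.AntPart
import Groth.Agent.GrpSchLib.HomClosedRange

/-! Rosenlicht: a non-proper connected smooth group has a positive-dimensional smooth affine subgroup. -/

set_option backward.isDefEq.respectTransparency false
set_option backward.isDefEq.respectTransparency.types false
set_option linter.style.haveILetI false
set_option maxHeartbeats 4000000
set_option synthInstance.maxHeartbeats 400000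

universe u

open CategoryTheory Limits AlgebraicGeometry MonoidalCategory CartesianMonoidalCategory MonObj IsLocalRing
open scoped MonObj

namespace Groth.Agent.AGFLib.Rosen

open H23.RatPoint GrpSchLib.Kunneth

variable {k : Type u} [Field k] [IsAlgClosed k]

local notation "PT" => 𝟙_ (Over (Spec (CommRingCat.of k)))

theorem iso_spt {Y : Over (Spec (CommRingCat.of k))} {y z : Y.left} (E : spO Y y ≅ spO Y z) :
    E.hom.left (spt Y y) = spt Y z := by
  haveI : IsIso (hm E.hom) := ⟨hm E.inv, by rw [← hm_comp, E.inv_hom_id, hm_id], by rw [← hm_comp, E.hom_inv_id, hm_id]⟩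
  rw [← map_hm E.hom]
  exact comap_closedPoint (hm E.hom).hom

variable {G Y : Over (Spec (CommRingCat.of k))} [GrpObj G] [IsIntegral G.left] [IsIntegral Y.left]
  (io : gen Y ≅ gen G)

theorem hom_unique [Y.left.IsSeparated] {y z : Y.left} {E F : spO Y y ⟶ spO Y z}
    (h : res (genericPoint_specializes y) ≫ E = res (genericPoint_specializes y) ≫ F) : E = F := by
  rw [← cancel_mono (fromO Y z)]
  exact lift_ext (by rw [← Category.assoc, ← Category.assoc, h])

theorem Sends.exists_iso [Y.left.IsSeparated] {g : PT ⟶ G} {y z : Y.left} (h1 : Sends io g y z) (h2 : Sends io g⁻¹ z y) :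
    ∃ E : spO Y y ≅ spO Y z, res (genericPoint_specializes y) ≫ E.hom = tau io g ≫ res (genericPoint_specializes z) := by
  obtain ⟨E, hE, -⟩ := h1
  obtain ⟨F, hF, -⟩ := h2
  refine ⟨⟨E, F, hom_unique ?_, hom_unique ?_⟩, hE⟩
  · rw [← Category.assoc, hE, Category.assoc, hF, ← Category.assoc, tau_comp, inv_mul_cancel, tau_one,
      Category.id_comp, Category.comp_id]
  · rw [← Category.assoc, hF, Category.assoc, hE, ← Category.assoc, tau_comp, mul_inv_cancel, tau_one,
      Category.id_comp, Category.comp_id]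

theorem iso_comp {g h : PT ⟶ G} {x y z : Y.left} {E : spO Y x ≅ spO Y y} {F : spO Y y ≅ spO Y z}
    (hE : res (genericPoint_specializes x) ≫ E.hom = tau io g ≫ res (genericPoint_specializes y))
    (hF : res (genericPoint_specializes y) ≫ F.hom = tau io h ≫ res (genericPoint_specializes z)) :
    res (genericPoint_specializes x) ≫ (E ≪≫ F).hom = tau io (h * g) ≫ res (genericPoint_specializes z) := by
  rw [Iso.trans_hom, ← Category.assoc, hE, Category.assoc, hF, ← Category.assoc, tau_comp]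

theorem iso_symm {g : PT ⟶ G} {y z : Y.left} {E : spO Y y ≅ spO Y z}
    (hE : res (genericPoint_specializes y) ≫ E.hom = tau io g ≫ res (genericPoint_specializes z)) :
    res (genericPoint_specializes z) ≫ E.inv = tau io g⁻¹ ≫ res (genericPoint_specializes y) := by
  calc res (genericPoint_specializes z) ≫ E.inv = tau io g⁻¹ ≫ (tau io g ≫ res (genericPoint_specializes z)) ≫ E.inv := by
        rw [← Category.assoc, ← Category.assoc, tau_comp, mul_inv_cancel, tau_one, Category.id_comp]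
    _ = tau io g⁻¹ ≫ res (genericPoint_specializes y) := by rw [← hE, Category.assoc, E.hom_inv_id, Category.comp_id]

/-- Pairs of an element fixing a closed point and the matrix of its inverse on jets. -/
def Pairs (d : Y.left) {m N : ℕ} (b : Module.Basis (Fin N) k (Jet Y d m))
    (s : PT ⟶ G ⊗ FrB.GLn N (Spec (CommRingCat.of k))) : Prop :=
  ∃ E : spO Y d ≅ spO Y d, res (genericPoint_specializes d) ≫ E.hom = tau io (s ≫ fst _ _) ≫ res (genericPoint_specializes d) ∧
    ∃ (M : Matrix (Fin N) (Fin N) k) (hM : IsUnit (M.map (algebraMap k (Fn (PT))))),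
      s ≫ snd _ _ = matPt (M.map (algebraMap k (Fn (PT)))) hM ∧
        LinearMap.toMatrix b b (jet m E.hom (iso_spt E)).toLinearMap * M = 1

omit [IsIntegral G.left] [IsIntegral Y.left] [GrpObj G] in
theorem isUnit_map_const {N : ℕ} {M : Matrix (Fin N) (Fin N) k} (h : IsUnit M) :
    IsUnit (M.map (algebraMap k (Fn (PT)))) := h.map (RingHom.mapMatrix (algebraMap k (Fn (PT))))

theorem toMatrix_trans {d z : Y.left} {m N : ℕ} {bd bd' : Module.Basis (Fin N) k (Jet Y d m)}
    {bz : Module.Basis (Fin N) k (Jet Y z m)} (E : spO Y d ≅ spO Y z) (F : spO Y z ≅ spO Y d) :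
    LinearMap.toMatrix bd' bd (jet m (E ≪≫ F).hom (iso_spt _)).toLinearMap =
      LinearMap.toMatrix bz bd (jet m E.hom (iso_spt E)).toLinearMap *
        LinearMap.toMatrix bd' bz (jet m F.hom (iso_spt F)).toLinearMap := by
  rw [← LinearMap.toMatrix_comp]
  congr 1
  exact congrArg AlgHom.toLinearMap (jet_comp E.hom (iso_spt E) F.hom (iso_spt F))

theorem toMatrix_symm {d z : Y.left} {m N : ℕ} (bd : Module.Basis (Fin N) k (Jet Y d m))
    (bz : Module.Basis (Fin N) k (Jet Y z m)) (E : spO Y d ≅ spO Y z) :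
    LinearMap.toMatrix bz bd (jet m E.hom (iso_spt E)).toLinearMap *
      LinearMap.toMatrix bd bz (jet m E.inv (iso_spt E.symm)).toLinearMap = 1 := by
  have h := toMatrix_trans (bd := bd) (bd' := bd) (bz := bz) E E.symm
  rw [← LinearMap.toMatrix_id bd]
  refine h.symm.trans ?_
  congr 1
  rw [jet_congr (E' := 𝟙 _) (by rw [Iso.trans_hom]; exact E.hom_inv_id) _ rfl, jet_id]
  rfl

theorem pairs_one (d : Y.left) {m N : ℕ} (b : Module.Basis (Fin N) k (Jet Y d m)) :
    Pairs (G := G) io d b 1 := by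
  refine ⟨Iso.refl _, ?_, 1, isUnit_map_const isUnit_one, ?_, ?_⟩
  · rw [MonObj.one_comp, tau_one, Iso.refl_hom, Category.comp_id, Category.id_comp]
  · rw [MonObj.one_comp, ← matPt_one]; exact matPt_congr (Matrix.map_one _ (map_zero _) (map_one _)).symm
  · rw [_root_.mul_one, jet_congr (E' := 𝟙 _) (Iso.refl_hom (spO Y d)) _ rfl, jet_id, ← LinearMap.toMatrix_id b]; rfl

theorem pairs_mul (d : Y.left) {m N : ℕ} {b : Module.Basis (Fin N) k (Jet Y d m)}
    {s t : PT ⟶ G ⊗ FrB.GLn N (Spec (CommRingCat.of k))} (hs : Pairs io d b s) (ht : Pairs io d b t) :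
    Pairs io d b (s * t) := by
  obtain ⟨E, hE, M, hM, hsM, hJ⟩ := hs
  obtain ⟨F, hF, M', hM', htM, hJ'⟩ := ht
  refine ⟨F ≪≫ E, ?_, M * M', ?_, ?_, ?_⟩
  · rw [MonObj.mul_comp]; exact iso_comp io hF hE
  · rw [Matrix.map_mul]; exact hM.mul hM'
  · rw [MonObj.mul_comp, hsM, htM, matPt_mul]; exact matPt_congr (Matrix.map_mul).symm
  · rw [toMatrix_trans (bz := b), _root_.mul_assoc, ← _root_.mul_assoc (LinearMap.toMatrix b b (jet m E.hom (iso_spt E)).toLinearMap),
      hJ, _root_.one_mul, hJ']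

theorem pairs_inv (d : Y.left) {m N : ℕ} {b : Module.Basis (Fin N) k (Jet Y d m)}
    {s : PT ⟶ G ⊗ FrB.GLn N (Spec (CommRingCat.of k))} (hs : Pairs io d b s) : Pairs io d b s⁻¹ := by
  obtain ⟨E, hE, M, hM, hsM, hJ⟩ := hs
  have hu := isUnit_map_const (k := k) (M := LinearMap.toMatrix b b (jet m E.hom (iso_spt E)).toLinearMap)
    (IsUnit.of_mul_eq_one M hJ)
  refine ⟨E.symm, ?_, _, hu, ?_, ?_⟩
  · rw [GrpObj.inv_comp]; exact iso_symm io hE
  · rw [GrpObj.inv_comp, inv_eq_iff_mul_eq_one, hsM, matPt_mul, ← matPt_one]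
    refine matPt_congr ?_
    rw [← Matrix.map_mul, mul_eq_one_comm.mp hJ, Matrix.map_one _ (map_zero _) (map_one _)]
  · rw [mul_eq_one_comm]; exact toMatrix_symm b b E

omit [GrpObj G] [IsIntegral G.left] [IsIntegral Y.left] in
theorem vl_ev {W W' : Over (Spec (CommRingCat.of k))} (t : PT ⟶ W') (f : W' ⟶ W) (c : Fn W) :
    vl t (ev f c) = vl (t ≫ f) c := rfl

omit [GrpObj G] [IsIntegral G.left] [IsIntegral Y.left] in
theorem ev_pt {W : Over (Spec (CommRingCat.of k))} (t : PT ⟶ W) (c : Fn W) :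
    ev t c = algebraMap k (Fn (PT)) (vl t c) := by
  rw [← ev_toUnit_comp (P := PT) t c, toUnit_unique (toUnit (PT)) (𝟙 _), Category.id_comp]

omit [GrpObj G] [IsIntegral G.left] [IsIntegral Y.left] in
theorem isUnit_of_vl {W : Over (Spec (CommRingCat.of k))} [IsAffine W.left] [LocallyOfFiniteType W.hom] (c : Fn W)
    (h : ∀ w : PT ⟶ W, vl w c ≠ 0) : IsUnit c := by
  have htop : W.left.basicOpen c = ⊤ := by
    ext1
    have hcl : IsClosed ((W.left.basicOpen c : Set W.left)ᶜ) := (W.left.basicOpen c).2.isClosed_compl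
    refine Set.eq_univ_iff_forall.mpr fun x => ?_
    by_contra hx
    haveI : JacobsonSpace W.left := LocallyOfFiniteType.jacobsonSpace W.hom
    obtain ⟨y, hy, hy'⟩ := nonempty_inter_closedPoints ⟨x, hx⟩ hcl.isLocallyClosed
    obtain ⟨w, rfl⟩ := Gen.exists_cp hy'
    refine hy ?_
    show closedPoint k ∈ w.left ⁻¹ᵁ W.left.basicOpen c
    rw [Scheme.preimage_basicOpen_top]
    have hu : IsUnit (ev w c) := by
      rw [ev_pt]; exact (isUnit_iff_ne_zero.mpr (h w)).map (algebraMap k (Fn (PT)))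
    rw [show w.left.appTop c = ev w c from rfl, Scheme.basicOpen_of_isUnit _ hu]
    trivial
  have h2 := congrArg (fun U : W.left.Opens => (isAffineOpen_top W.left).fromSpec ⁻¹ᵁ U) htop
  simp only [IsAffineOpen.fromSpec_preimage_basicOpen, Scheme.Hom.preimage_top] at h2
  by_contra hc
  obtain ⟨P, hP, hcP⟩ := Ideal.exists_le_maximal (Ideal.span {c}) (fun h => hc (Ideal.span_singleton_eq_top.mp h))
  have hm : (⟨P, hP.isPrime⟩ : PrimeSpectrum Γ(W.left, ⊤)) ∈ PrimeSpectrum.basicOpen c := by rw [h2]; trivial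
  exact hm (hcP (Ideal.mem_span_singleton_self c))

variable [LocallyOfFiniteType G.hom]

/-- The regular family of matrices of jets along the transporter. -/
theorem exists_matrix [IsAffine Y.left] [LocallyOfFiniteType Y.hom] {U : (G ⊗ Y).left.Opens} (F : opO U ⟶ Y)
    (hAt : ∀ (g : PT ⟶ G) (y : Y.left) (L : spO Y y ⟶ opO U), L ≫ opι U = fromO Y y ≫ sl Y g →
      res (genericPoint_specializes y) ≫ L ≫ F = tau io g ≫ fromO Y _)
    {W : Over (Spec (CommRingCat.of k))} [IsAffine W.left] [LocallyOfFiniteType W.hom] (a : W ⟶ G) (d : PT ⟶ Y)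
    (z : Y.left) (hz : IsClosed ({z} : Set Y.left))
    (hU : ∀ w : PT ⟶ W, (sl Y (w ≫ a)).left (Gen.cp d) ∈ U)
    (E : ∀ w : PT ⟶ W, spO Y (Gen.cp d) ≅ spO Y z)
    (hE : ∀ w, res (genericPoint_specializes _) ≫ (E w).hom = tau io (w ≫ a) ≫ res (genericPoint_specializes z))
    {m N : ℕ} (bd : Module.Basis (Fin N) k (Jet Y (Gen.cp d) m)) (bz : Module.Basis (Fin N) k (Jet Y z m)) :
    ∃ L : Matrix (Fin N) (Fin N) (Fn W), IsUnit L ∧
      ∀ w : PT ⟶ W, L.map (vl w) = LinearMap.toMatrix bz bd (jet m (E w).hom (iso_spt _)).toLinearMap := by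
  haveI := GrpSchLib.AntiAffine.isSeparated_grp G
  haveI : Y.left.IsSeparated := inferInstance
  haveI : IsSeparated Y.hom := inferInstance
  have hd : IsClosed ({Gen.cp d} : Set Y.left) := Gen.isClosed_cp d
  haveI := finite_jet (m := m) hd
  haveI : LocallyOfFiniteType (jetO Y (Gen.cp d) m).hom :=
    (HasRingHomProperty.Spec_iff (P := @LocallyOfFiniteType)).mpr
      (RingHom.finiteType_algebraMap.mpr (inferInstance : Algebra.FiniteType k (Jet Y (Gen.cp d) m)))
  haveI : LocallyOfFiniteType (W ⊗ jetO Y (Gen.cp d) m).hom := by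
    show LocallyOfFiniteType (pullback.fst W.hom (jetO Y (Gen.cp d) m).hom ≫ W.hom); infer_instance
  let π : jetO Y (Gen.cp d) m ⟶ Y := jetι Y (Gen.cp d) m ≫ fromO Y (Gen.cp d)
  let T : W ⊗ jetO Y (Gen.cp d) m ⟶ G ⊗ Y := lift (fst _ _ ≫ a) (snd _ _ ≫ π)
  have hπ : ∀ p, π.left p = Gen.cp d := fun p => by
    show (fromO Y (Gen.cp d)).left ((jetι Y (Gen.cp d) m).left p) = _
    have hp : (jetι Y (Gen.cp d) m).left p = spt Y (Gen.cp d) := by
      refine PrimeSpectrum.ext ((maximalIdeal.isMaximal _).eq_of_le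
        (Ideal.IsPrime.ne_top ((jetι Y (Gen.cp d) m).left p).2) ?_).symm
      intro c hc
      refine ((jetι Y (Gen.cp d) m).left p).2.mem_of_pow_mem (m + 1) ?_
      show qJet Y (Gen.cp d) m (c ^ (m + 1)) ∈ (p : PrimeSpectrum (Jet Y (Gen.cp d) m)).asIdeal
      rw [Ideal.Quotient.eq_zero_iff_mem.mpr (Ideal.pow_mem_pow hc _)]
      exact zero_mem _
    rw [hp, fromO_spt]
  have hTU : ∀ x, T.left x ∈ U := by
    refine fun x => by_contra fun hx => ?_
    haveI : JacobsonSpace (W ⊗ jetO Y (Gen.cp d) m).left :=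
      LocallyOfFiniteType.jacobsonSpace (W ⊗ jetO Y (Gen.cp d) m).hom
    obtain ⟨y, hy, hy'⟩ := nonempty_inter_closedPoints (Z := (T.left ⁻¹' (U : Set (G ⊗ Y).left))ᶜ) ⟨x, hx⟩
      (U.2.preimage T.left.continuous).isClosed_compl.isLocallyClosed
    obtain ⟨t, rfl⟩ := Gen.exists_cp hy'
    refine hy ?_
    have hd' : t ≫ snd _ _ ≫ π = d := Gen.cp_injective (hπ _)
    have e : t ≫ T = d ≫ sl Y (t ≫ fst _ _ ≫ a) := by
      apply CartesianMonoidalCategory.hom_ext
      · rw [Category.assoc, lift_fst, Category.assoc, sl_fst, ← Category.assoc d, toUnit_unique (d ≫ toUnit Y) (𝟙 _),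
          Category.id_comp]
      · rw [Category.assoc, lift_snd, Category.assoc, sl_snd, Category.comp_id]; exact hd'
    show T.left (Gen.cp t) ∈ U
    rw [← Gen.cp_comp, e, Gen.cp_comp, ← Category.assoc]
    exact hU _
  obtain ⟨l, hl⟩ := exists_liftU T hTU
  choose c hc using fun j => toJet_surjective (m := m) hz (bz j)
  choose e he using fun j => exists_coord hd bd (ev (l ≫ F) (c j))
  let L : Matrix (Fin N) (Fin N) (Fn W) := Matrix.of fun i j => e j i
  have hL : ∀ w : PT ⟶ W, L.map (vl w) = LinearMap.toMatrix bz bd (jet m (E w).hom (iso_spt _)).toLinearMap := fun w => by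
    refine Matrix.ext fun i j => ?_
    show vl w (e j i) = _
    rw [he, LinearMap.toMatrix_apply]
    congr 2
    obtain ⟨Lw, hLw⟩ := exists_liftU (fromO Y (Gen.cp d) ≫ sl Y (w ≫ a)) fun x => by
      rw [← stk_fromO, Over.comp_left, Scheme.Hom.comp_apply]; exact range_fromO_mem (hU w) _
    have h1 : sl _ w ≫ l = jetι Y (Gen.cp d) m ≫ Lw := by
      rw [← cancel_mono (opι U), Category.assoc, hl, Category.assoc, hLw]
      apply CartesianMonoidalCategory.hom_ext
      · simp only [T, Category.assoc, lift_fst, sl_fst]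
        rw [← Category.assoc, sl_fst, ← Category.assoc (fromO Y _), comp_toUnit, ← Category.assoc (jetι Y _ m),
          comp_toUnit, Category.assoc]
      · simp only [T, Category.assoc, lift_snd, sl_snd, Category.comp_id]
        rw [← Category.assoc, sl_snd, Category.id_comp]
    have h2 : Lw ≫ F = (E w).hom ≫ fromO Y z := lift_ext (by
      rw [hAt (w ≫ a) _ Lw hLw, ← Category.assoc, hE, Category.assoc, res_fromO])
    rw [ev_ev, ← Category.assoc, h1, Category.assoc, h2, ev_jetι, AlgEquiv.symm_apply_apply, AlgHom.toLinearMap_apply,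
      ← hc j]
    rfl
  refine ⟨L, (Matrix.isUnit_iff_isUnit_det L).mpr (isUnit_of_vl _ fun w h0 => ?_), hL⟩
  rw [RingHom.map_det, RingHom.mapMatrix_apply, hL] at h0
  have h1 := congrArg Matrix.det (toMatrix_symm bd bz (E w))
  rw [Matrix.det_mul, Matrix.det_one, h0, zero_mul] at h1
  exact zero_ne_one h1

omit [GrpObj G] [IsIntegral G.left] [IsIntegral Y.left] [LocallyOfFiniteType G.hom] in
theorem eq_of_forall_jet_id [LocallyOfFiniteType Y.hom] {y : Y.left} (E : spO Y y ⟶ spO Y y)
    (hE : E.left (spt Y y) = spt Y y) (h : ∀ m, jet m E hE = AlgHom.id k _) : E = 𝟙 _ := by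
  haveI : IsLocallyNoetherian Y.left := LocallyOfFiniteType.isLocallyNoetherian Y.hom
  refine Over.OverMorphism.ext ?_
  rw [← map_hm E, ← map_hm (𝟙 (spO Y y)), hm_id]
  congr 1
  ext a
  have hmem : (hm E).hom a - a ∈ ⨅ m : ℕ, maximalIdeal (Y.left.presheaf.stalk y) ^ m := Ideal.mem_iInf.mpr fun m => by
    refine Ideal.pow_le_pow_right (Nat.le_succ m) ?_
    rw [← Ideal.Quotient.eq]
    exact AlgHom.congr_fun (h m) (qJet Y y m a)
  rw [Ideal.iInf_pow_eq_bot_of_isLocalRing _ (maximalIdeal.isMaximal _).ne_top, Ideal.mem_bot, sub_eq_zero] at hmem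
  exact hmem

variable [Smooth G.hom] [QuasiCompact G.hom]

/-- Rosenlicht's theorem for an integral group. -/
theorem exists_affine_subgroup (hns : ¬ IsProper G.hom) :
    ∃ (H : Over (Spec (CommRingCat.of k))) (_ : GrpObj H) (j : H ⟶ G), IsMonHom j ∧ IsClosedImmersion j.left ∧
      Smooth H.hom ∧ IsAffine H.left ∧ 0 < topologicalKrullDim ↥H.left := by
  classical
  haveI := GrpSchLib.AntiAffine.isSeparated_grp G
  obtain ⟨Y, hYi, hYa, hYl, io, U, F, W, hWi, hWa, hWl, a, d, z, ha, hdeg, hAt, hw⟩ := exists_locus (G := G) hns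
  haveI := ha
  haveI : Y.left.IsSeparated := inferInstance
  haveI : IsSeparated Y.hom := inferInstance
  choose E hE using fun w => Sends.exists_iso io (hw w).2.1 (hw w).2.2
  haveI : QuasiCompact W.hom := inferInstance
  -- the family and the subgroup it generates
  let φ : W ⊗ W ⟶ G := (snd W W ≫ a)⁻¹ * (fst W W ≫ a)
  have hφ : ∀ t : PT ⟶ W ⊗ W, t ≫ φ = (t ≫ snd W W ≫ a)⁻¹ * (t ≫ fst W W ≫ a) := fun t => by
    simp only [φ, MonObj.comp_mul, GrpObj.comp_inv]
  haveI : LocallyOfFiniteType (W ⊗ W).hom := inferInstanceAs (LocallyOfFiniteType (pullback.fst W.hom W.hom ≫ W.hom))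
  haveI : QuasiCompact (W ⊗ W).hom := inferInstanceAs (QuasiCompact (pullback.fst W.hom W.hom ≫ W.hom))
  haveI := H23.EquidimFibres.geometricallyIntegral_of_isAlgClosed (V := W)
  haveI : IsIntegral (W ⊗ W).left := H23.RatExt.isIntegral_sq
  haveI : JacobsonSpace W.left := LocallyOfFiniteType.jacobsonSpace W.hom
  obtain ⟨c₀, -, hc₀⟩ := VarDim.exists_closed_specialization W.hom (genericPoint W.left)
  obtain ⟨w₀, -⟩ := Gen.exists_cp hc₀
  obtain ⟨H, _, iH, hiH, hiHc, hHs, hHr, hHi, hHq, hHpts⟩ := Gen.exists_generated φ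
    ⟨lift w₀ w₀, by rw [hφ, lift_fst_assoc, lift_snd_assoc, inv_mul_cancel]⟩
    (fun t => ⟨lift (t ≫ snd W W) (t ≫ fst W W), by
      rw [hφ, hφ, lift_fst_assoc, lift_snd_assoc, _root_.mul_inv_rev, _root_.inv_inv, Category.assoc, Category.assoc]⟩)
  haveI := hiH; haveI := hiHc; haveI := hHs; haveI := hHr; haveI := hHi; haveI := hHq
  haveI : LocallyOfFiniteType H.hom := by rw [← Over.w iH]; infer_instance
  haveI : Mono iH := AntPart.mono_sub iH
  refine ⟨H, inferInstance, iH, hiH, hiHc, hHs, ?_, ?_⟩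
  swap
  · let T : G ⟶ G := (toUnit G ≫ (w₀ ≫ a)⁻¹) * 𝟙 G
    haveI : IsIso T := ⟨(toUnit G ≫ (w₀ ≫ a)) * 𝟙 G, by
      constructor <;>
        simp only [T, MonObj.comp_mul, ← Category.assoc, comp_toUnit, Category.comp_id, GrpObj.comp_inv,
          mul_inv_cancel_left, inv_mul_cancel_left]⟩
    have hWrange : ∀ w : PT ⟶ W, ∃ e : PT ⟶ H, e ≫ iH = w ≫ a ≫ T := fun w => by
      have : (w ≫ a ≫ T) ∈ (Subgroup.closure (Set.range fun t : PT ⟶ W ⊗ W => t ≫ φ) : Set (PT ⟶ G)) := by
        refine Subgroup.subset_closure ⟨lift w w₀, ?_⟩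
        show lift w w₀ ≫ φ = _
        rw [hφ, lift_fst_assoc, lift_snd_assoc]
        simp only [T, MonObj.comp_mul, ← Category.assoc, toUnit_unique ((w ≫ a) ≫ toUnit G) (𝟙 _), Category.id_comp,
          Category.comp_id]
      rw [← hHpts] at this
      exact this
    haveI : IsReduced W.left := inferInstance
    obtain ⟨l, hl⟩ := BorelExist.exists_lift_pts iH (a ≫ T) hWrange
    have e1 := VarDim.deg_le_of_specializes H.hom (genericPoint_specializes (α := H.left) (l.left (genericPoint W.left)))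
    haveI : IsPreimmersion (a ≫ T).left := inferInstanceAs (IsPreimmersion (a.left ≫ ((Over.forget _).map T)))
    have e2 := deg_preimmersion (a ≫ T) (genericPoint W.left)
    have e3 := deg_preimmersion iH (l.left (genericPoint W.left))
    rw [← Scheme.Hom.comp_apply, ← Over.comp_left, hl, ← e2] at e3
    rw [VarDim.topologicalKrullDim_eq_deg_genericPoint H.hom]
    have : 0 < VarDim.deg H.hom (genericPoint H.left) := by omega
    exact_mod_cast this
  -- the anti-affine part fixes all jets at `d`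
  obtain ⟨P, _, iP, hiP, hiPc, -, hPl, hPq, hP, -, -⟩ := AntPart.exists_ant H
  haveI := hiP; haveI := hiPc
  refine AntPart.isAffine_of_trivial_ant hP ?_
  haveI : Mono iP := AntPart.mono_sub iP
  suffices htriv : ∀ q : PT ⟶ P, q ≫ iP ≫ iH = 1 by
    haveI : Smooth P.hom := GrpSchLib.AntiAffineSmooth.smooth hP.bij
    haveI : IsReduced P.left := GrpSchLib.isReduced_of_smooth_field P.hom
    haveI : IsSeparated P.hom := GrpSchLib.AntiAffine.isSeparated_grp P
    haveI : IsClosedImmersion η[P].left := by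
      haveI : IsClosedImmersion (η[P].left ≫ P.hom) := by
        rw [Over.w η[P]]; exact inferInstanceAs (IsClosedImmersion (𝟙 _))
      exact IsClosedImmersion.of_comp η[P].left P.hom
    haveI : Surjective η[P].left := ⟨fun y => (Gen.eq_univ_of_forall_cp η[P].left.isClosedEmbedding.isClosed_range fun q => by
      refine ⟨closedPoint k, ?_⟩
      show η[P].left _ = q.left _
      rw [show q = η[P] by
        rw [← cancel_mono iP, ← cancel_mono iH, Category.assoc, htriv, MonObj.one_eq_one, MonObj.one_comp, MonObj.one_comp]]).ge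
        (Set.mem_univ y)⟩
    haveI : IsIso η[P].left := isIso_of_isClosedImmersion_of_surjective η[P].left
    haveI : IsIso (η[P].left ≫ P.hom) := by rw [Over.w η[P]]; exact inferInstanceAs (IsIso (𝟙 _))
    exact IsIso.of_isIso_comp_left η[P].left P.hom
  intro q
  let g := q ≫ iP ≫ iH
  have hd : IsClosed ({Gen.cp d} : Set Y.left) := Gen.isClosed_cp d
  have hz : IsClosed ({Gen.cp z} : Set Y.left) := Gen.isClosed_cp z
  suffices hjet : ∀ m, ∃ (Eg : spO Y (Gen.cp d) ≅ spO Y (Gen.cp d)),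
      res (genericPoint_specializes _) ≫ Eg.hom = tau io g ≫ res (genericPoint_specializes _) ∧
      jet m Eg.hom (iso_spt Eg) = AlgHom.id k _ by
    choose Eg hEg hid using hjet
    have huniq : ∀ m, (Eg m).hom = (Eg 0).hom := fun m => hom_unique ((hEg m).trans (hEg 0).symm)
    have h1 := eq_of_forall_jet_id (Eg 0).hom (iso_spt _) fun m => by rw [← hid m]; exact jet_congr (huniq m).symm _ _
    have h2 := hEg 0
    rw [h1, Category.comp_id] at h2
    have h3 : tau io g ≫ fromO Y _ = fromO Y _ := by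
      rw [← res_fromO (genericPoint_specializes (Gen.cp d)), ← Category.assoc, ← h2]
    have h4 : tr g = 𝟙 _ := by
      have h5 : tau io g = 𝟙 _ := by rw [← cancel_mono (fromO Y _), h3, Category.id_comp]
      rw [tau] at h5
      have := congrArg (fun t => io.inv ≫ t ≫ io.hom) h5
      simpa using this
    have h5 := tr_spec g
    rw [h4, Category.id_comp, right_eq_mul] at h5
    refine Gen.cp_injective ?_
    show g.left (closedPoint k) = (1 : PT ⟶ G).left (closedPoint k)
    have h6 := congrArg (fun t : gen G ⟶ G => t.left (spt G _)) h5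
    simp only [Over.comp_left, Scheme.Hom.comp_apply] at h6
    have hpt : (toUnit (gen G)).left (spt G (genericPoint G.left)) = closedPoint k := Subsingleton.elim (α := PrimeSpectrum k) _ _
    rw [hpt, ← MonObj.comp_one (toUnit (gen G))] at h6
    simp only [Over.comp_left, Scheme.Hom.comp_apply, hpt] at h6
    exact h6
  intro m
  haveI := finite_jet (m := m) hd
  haveI := finite_jet (m := m) hz
  obtain ⟨N, ⟨bd⟩⟩ : ∃ N : ℕ, Nonempty (Module.Basis (Fin N) k (Jet Y (Gen.cp d) m)) := ⟨_, ⟨Module.finBasis k _⟩⟩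
  let ez : Jet Y (Gen.cp z) m ≃ₗ[k] Jet Y (Gen.cp d) m :=
    LinearEquiv.ofLinearMap (jet m (E w₀).hom (iso_spt _)).toLinearMap (jet m (E w₀).inv (iso_spt (E w₀).symm)).toLinearMap
      (by
        rw [← AlgHom.comp_toLinearMap, ← jet_comp, jet_congr (E' := 𝟙 _) (E w₀).hom_inv_id _ rfl, jet_id]; rfl)
      (by
        rw [← AlgHom.comp_toLinearMap, ← jet_comp, jet_congr (E' := 𝟙 _) (E w₀).inv_hom_id _ rfl, jet_id]; rfl)
  let bz := bd.map ez.symm
  obtain ⟨L, hLu, hL⟩ := exists_matrix io F hAt a d (Gen.cp z) hz (fun w => (hw w).1) E hE bd bz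
  let GLN := FrB.GLn N (Spec (CommRingCat.of k))
  haveI : IsAffine GLN.left := affine_GL k N
  haveI : Smooth GLN.hom := smooth_GL k N
  haveI : LocallyOfFiniteType GLN.hom := inferInstance
  haveI : QuasiCompact GLN.hom := inferInstance
  haveI : LocallyOfFiniteType (G ⊗ GLN).hom := inferInstanceAs (LocallyOfFiniteType (pullback.fst G.hom GLN.hom ≫ G.hom))
  haveI : QuasiCompact (G ⊗ GLN).hom := inferInstanceAs (QuasiCompact (pullback.fst G.hom GLN.hom ≫ G.hom))
  let Li : Matrix (Fin N) (Fin N) (Fn W) := (hLu.unit⁻¹ : (Matrix (Fin N) (Fin N) (Fn W))ˣ)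
  have hLLi : L * Li = 1 := hLu.mul_val_inv
  have hLiu : IsUnit Li := Units.isUnit _
  let M : Matrix (Fin N) (Fin N) (Fn (W ⊗ W)) := L.map (ev (snd W W)) * Li.map (ev (fst W W))
  have hM : IsUnit M := (isUnit_map (snd W W) hLu).mul (isUnit_map (fst W W) hLiu)
  let φ' : W ⊗ W ⟶ G ⊗ GLN := lift φ (matPt M hM)
  have hφ' : ∀ t : PT ⟶ W ⊗ W, Pairs io (Gen.cp d) bd (t ≫ φ') := fun t => by
    have hM' : (L.map (vl (t ≫ snd W W)) * Li.map (vl (t ≫ fst W W))).map (algebraMap k (Fn (PT))) = M.map (ev t) := by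
      rw [Matrix.map_mul, Matrix.map_map, Matrix.map_map, show M.map (ev t) = _ from Matrix.map_mul, Matrix.map_map,
        Matrix.map_map]
      congr 1 <;> (congr 1; funext c; exact (ev_pt _ c).symm)
    refine ⟨E (t ≫ fst W W) ≪≫ (E (t ≫ snd W W)).symm, ?_, _, hM'.symm ▸ isUnit_map t hM, ?_, ?_⟩
    · rw [Category.assoc, lift_fst, hφ, ← Category.assoc t, ← Category.assoc t]
      exact iso_comp io (hE _) (iso_symm io (hE _))
    · rw [Category.assoc, lift_snd, comp_matPt]; exact matPt_congr hM'.symm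
    · have h1 := toMatrix_symm bd bz (E (t ≫ snd W W))
      rw [← hL] at h1
      have h2 : L.map (vl (t ≫ fst W W)) * Li.map (vl (t ≫ fst W W)) = 1 := by
        rw [← Matrix.map_mul, hLLi, Matrix.map_one _ (map_zero _) (map_one _)]
      rw [toMatrix_trans (bz := bz), ← hL, _root_.mul_assoc, ← _root_.mul_assoc (LinearMap.toMatrix bd bz _)]
      rw [show LinearMap.toMatrix bd bz (jet m (E (t ≫ snd W W)).symm.hom (iso_spt _)).toLinearMap *
        L.map (vl (t ≫ snd W W)) = 1 from mul_eq_one_comm.mp h1, _root_.one_mul, h2]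
  obtain ⟨Ht, _, iT, hiT, hiTc, hTs, hTr, -, hTq, hTpts⟩ := Gen.exists_generated φ'
    ⟨lift w₀ w₀, by
      apply CartesianMonoidalCategory.hom_ext
      · rw [Category.assoc, lift_fst, MonObj.one_comp, hφ, lift_fst_assoc, lift_snd_assoc, inv_mul_cancel]
      · rw [Category.assoc, lift_snd, MonObj.one_comp, comp_matPt, ← matPt_one]
        refine matPt_congr ?_
        rw [show M.map (ev (lift w₀ w₀)) = _ from Matrix.map_mul, Matrix.map_map, Matrix.map_map]
        simp only [Function.comp_def, ev_ev, lift_fst, lift_snd]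
        rw [← Matrix.map_mul, hLLi, Matrix.map_one _ (map_zero _) (map_one _)]⟩
    (fun t => ⟨lift (t ≫ snd W W) (t ≫ fst W W), by
      apply CartesianMonoidalCategory.hom_ext
      · rw [Category.assoc, lift_fst, GrpObj.inv_comp, Category.assoc, lift_fst, hφ, hφ, lift_fst_assoc, lift_snd_assoc,
          _root_.mul_inv_rev, _root_.inv_inv, Category.assoc, Category.assoc]
      · rw [Category.assoc, lift_snd, GrpObj.inv_comp, Category.assoc, lift_snd, comp_matPt, comp_matPt,
          eq_inv_iff_mul_eq_one, matPt_mul, ← matPt_one]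
        refine matPt_congr ?_
        rw [show M.map (ev (lift (t ≫ snd W W) (t ≫ fst W W))) = _ from Matrix.map_mul, show M.map (ev t) = _ from
          Matrix.map_mul, Matrix.map_map, Matrix.map_map, Matrix.map_map, Matrix.map_map]
        simp only [Function.comp_def, ev_ev, lift_fst, lift_snd]
        rw [_root_.mul_assoc, ← _root_.mul_assoc (Li.map _) (L.map _), ← Matrix.map_mul (f := ev (t ≫ snd W W)), mul_eq_one_comm.mp hLLi,
          Matrix.map_one _ (map_zero _) (map_one _), _root_.one_mul, ← Matrix.map_mul, hLLi,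
          Matrix.map_one _ (map_zero _) (map_one _)]⟩)
  haveI := hiT; haveI := hiTc; haveI := hTs; haveI := hTr; haveI := hTq
  haveI : LocallyOfFiniteType Ht.hom := by rw [← Over.w iT]; infer_instance
  have hpairs : ∀ t : PT ⟶ Ht, Pairs io (Gen.cp d) bd (t ≫ iT) := fun t => by
    have ht : t ≫ iT ∈ Subgroup.closure (Set.range fun t : PT ⟶ W ⊗ W => t ≫ φ') := hTpts.le ⟨t, rfl⟩
    generalize t ≫ iT = v at ht ⊢
    induction ht using Subgroup.closure_induction with
    | mem x hx => obtain ⟨s, rfl⟩ := hx; exact hφ' s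
    | one => exact pairs_one io _ _
    | mul x y _ _ hx hy => exact pairs_mul io _ hx hy
    | inv x _ hx => exact pairs_inv io _ hx
  -- projection to `H`
  have hmap : ∀ t : PT ⟶ Ht, ∃ e : PT ⟶ H, e ≫ iH = t ≫ iT ≫ fst G GLN := fun t => by
    have ht : t ≫ iT ∈ Subgroup.closure (Set.range fun t : PT ⟶ W ⊗ W => t ≫ φ') := hTpts.le ⟨t, rfl⟩
    rw [← Category.assoc]
    suffices hmem : (t ≫ iT) ≫ fst G GLN ∈ (Subgroup.closure (Set.range fun t : PT ⟶ W ⊗ W => t ≫ φ) : Set (PT ⟶ G)) by
      rw [← hHpts] at hmem; exact hmem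
    generalize t ≫ iT = v at ht ⊢
    induction ht using Subgroup.closure_induction with
    | mem x hx => obtain ⟨s, rfl⟩ := hx; exact Subgroup.subset_closure ⟨s, by simp [φ']⟩
    | one => rw [MonObj.one_comp]; exact one_mem _
    | mul x y _ _ hx hy => rw [MonObj.mul_comp]; exact mul_mem hx hy
    | inv x _ hx => rw [GrpObj.inv_comp]; exact inv_mem hx
  obtain ⟨p, hp⟩ := BorelExist.exists_lift_pts iH (iT ≫ fst G GLN) hmap
  haveI : IsMonHom p :=
    { one_hom := by rw [← cancel_mono iH, Category.assoc, hp, IsMonHom.one_hom (iT ≫ fst G GLN), IsMonHom.one_hom iH]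
      mul_hom := by
        rw [← cancel_mono iH, Category.assoc, hp, IsMonHom.mul_hom (iT ≫ fst G GLN), Category.assoc, IsMonHom.mul_hom iH,
          MonoidalCategory.tensorHom_comp_tensorHom_assoc, hp] }
  haveI := GrpSchLib.AntiAffine.isSeparated_grp H
  haveI : QuasiCompact p.left := AntPart.qc_hom p
  haveI : Surjective p.left := ⟨fun y => (Gen.eq_univ_of_forall_cp (GrpSchLib.HomClosedRange.isClosed_range p) fun x => by
    have hx : x ≫ iH ∈ Subgroup.closure (Set.range fun t : PT ⟶ W ⊗ W => t ≫ φ) := hHpts.le ⟨x, rfl⟩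
    suffices hmem : ∃ s ∈ Subgroup.closure (Set.range fun t : PT ⟶ W ⊗ W => t ≫ φ'), s ≫ fst G GLN = x ≫ iH by
      obtain ⟨s, hs, hsx⟩ := hmem
      obtain ⟨t, ht⟩ := hTpts.ge hs
      refine ⟨Gen.cp t, ?_⟩
      rw [← Gen.cp_comp]
      congr 1
      rw [← cancel_mono iH, Category.assoc, hp, ← Category.assoc, show t ≫ iT = s from ht, hsx]
    clear_value g
    generalize x ≫ iH = v at hx
    induction hx using Subgroup.closure_induction with
    | mem v hv => obtain ⟨s, rfl⟩ := hv; exact ⟨_, Subgroup.subset_closure ⟨s, rfl⟩, by simp [φ']⟩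
    | one => exact ⟨1, one_mem _, MonObj.one_comp _⟩
    | mul v v' _ _ hv hv' =>
      obtain ⟨s, hs, rfl⟩ := hv; obtain ⟨s', hs', rfl⟩ := hv'
      exact ⟨s * s', mul_mem hs hs', MonObj.mul_comp _ _ _⟩
    | inv v _ hv => obtain ⟨s, hs, rfl⟩ := hv; exact ⟨s⁻¹, inv_mem hs, GrpObj.inv_comp _ _⟩).ge (Set.mem_univ y)⟩
  haveI : Flat p.left := GrpSchLib.flat_of_surjective_hom p
  obtain ⟨PT', _, iP', hiP', _, _, hPl', hPq', hP', -, -⟩ := AntPart.exists_ant Ht
  haveI := hiP'
  have hr := AntPart.range_comp_quot p hP' hP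
  haveI := hPl'
  obtain ⟨t, ht⟩ := Gen.exists_of_mem_range (iP' ≫ p) (q ≫ iP) (by
    rw [hr]; exact ⟨Gen.cp q, rfl⟩)
  obtain ⟨Eg, hEg, Mg, hMg, hMeq, hJ⟩ := hpairs (t ≫ iP')
  have hfst : (t ≫ iP') ≫ iT ≫ fst G GLN = g := by
    rw [← hp]
    show (t ≫ iP') ≫ p ≫ iH = q ≫ iP ≫ iH
    rw [← Category.assoc (t ≫ iP'), Category.assoc t iP' p, ht, Category.assoc]
  refine ⟨Eg, by rw [← hfst, ← Category.assoc (t ≫ iP')]; exact hEg, ?_⟩
  have hsnd : ((t ≫ iP') ≫ iT) ≫ snd G GLN =
      matPt (1 : Matrix (Fin N) (Fin N) (Fn (PT))) isUnit_one := by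
    have h := GrpSchLib.AntiAffine.eq_const_of_isAffine hP'.bij (iP' ≫ iT ≫ snd G GLN) η[PT']
    haveI : IsMonHom (snd G GLN) := inferInstance
    rw [← Category.assoc η[PT'], IsMonHom.one_hom iP', ← Category.assoc η[Ht], IsMonHom.one_hom iT, IsMonHom.one_hom (snd G GLN), MonObj.one_eq_one] at h
    rw [Category.assoc, Category.assoc, h, matPt_one, MonObj.comp_one, MonObj.comp_one]
  rw [hMeq] at hsnd
  have hMg1 : Mg = 1 := by
    have h := matPt_injective hsnd
    refine Matrix.ext fun i j => ?_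
    have e := congrFun (congrFun h i) j
    rw [Matrix.map_apply, Matrix.one_apply] at e
    haveI : Nontrivial (Fn (PT)) := (ptFn (k := k)).toEquiv.nontrivial
    refine RingHom.injective (algebraMap k (Fn (PT))) ?_
    rw [Matrix.one_apply, e]
    split_ifs <;> simp
  rw [hMg1, _root_.mul_one] at hJ
  refine AlgHom.toLinearMap_injective ((LinearMap.toMatrix bd bd).injective ?_)
  rw [hJ]
  exact (LinearMap.toMatrix_id bd).symm

end Groth.Agent.AGFLib.Rosen
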