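import Groth.Agent.AGFLib.Rosen.Basic
import Groth.Agent.H23.RatModel

/-! Affine normal models inside a valuation ring of the function field. -/

set_option backward.isDefEq.respectTransparency false
set_option backward.isDefEq.respectTransparency.types false
set_option linter.style.haveILetI false
set_option maxHeartbeats 1000000
set_option synthInstance.maxHeartbeats 400000

universe u

open CategoryTheory Limits AlgebraicGeometry IsLocalRing

namespace Groth.Agent.AGFLib.Rosen

open H23.RatPoint

variable {k : Type u} [Field k] {X Y : Over (Spec (CommRingCat.of k))}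

/-- The constants in a local ring. -/
noncomputable def cst (X : Over (Spec (CommRingCat.of k))) (x : X.left) :
    CommRingCat.of k ⟶ X.left.presheaf.stalk x := Spec.preimage (spO X x).hom

theorem map_cst (x : X.left) : Spec.map (cst X x) = X.left.fromSpecStalk x ≫ X.hom := Spec.map_preimage _

theorem cst_hm {p : X.left} {q : Y.left} (a : spO X p ⟶ spO Y q) : cst Y q ≫ hm a = cst X p :=
  Spec.map_injective (by rw [Spec.map_comp, map_hm, cst, cst, Spec.map_preimage, Spec.map_preimage]; exact Over.w a)

theorem cst_eq_baseMap (x : X.left) :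
    cst X x = CommRingCat.ofHom (VarDim.baseMap X.hom) ≫ X.left.presheaf.germ ⊤ x trivial := by
  refine Spec.map_injective ?_
  rw [map_cst, Spec.map_comp, ← Scheme.fromSpecStalk_toSpecΓ, Category.assoc]
  congr 1
  have h := Scheme.toSpecΓ_naturality X.hom
  rw [← SpecMap_ΓSpecIso_hom] at h
  rw [show CommRingCat.ofHom (VarDim.baseMap X.hom) = (Scheme.ΓSpecIso (CommRingCat.of k)).inv ≫ X.hom.appTop from rfl,
    Spec.map_comp, ← reassoc_of% h, ← Spec.map_comp, Iso.inv_hom_id, Spec.map_id, Category.comp_id]

theorem resHom_eq (x : X.left) :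
    VarDim.resHom X.hom x = (X.left.residue x).hom.comp (cst X x).hom := by
  rw [cst_eq_baseMap]; rfl

theorem hm_iso_inv {p : X.left} {q : Y.left} (io : spO X p ≅ spO Y q) (a : X.left.presheaf.stalk p) :
    (hm io.hom).hom ((hm io.inv).hom a) = a := by
  rw [← CommRingCat.comp_apply, ← hm_comp, io.hom_inv_id, hm_id]; rfl

theorem hm_iso_hom {p : X.left} {q : Y.left} (io : spO X p ≅ spO Y q) (a : Y.left.presheaf.stalk q) :
    (hm io.inv).hom ((hm io.hom).hom a) = a := by
  rw [← CommRingCat.comp_apply, ← hm_comp, io.inv_hom_id, hm_id]; rfl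

theorem deg_gen_congr [IsIntegral X.left] [IsIntegral Y.left] (io : gen X ≅ gen Y) :
    VarDim.deg X.hom (genericPoint X.left) = VarDim.deg Y.hom (genericPoint Y.left) := by
  rw [VarDim.deg, VarDim.deg]
  congr 1
  letI : Algebra k (X.left.residueField (genericPoint X.left)) := (VarDim.resHom X.hom _).toAlgebra
  letI : Algebra k (Y.left.residueField (genericPoint Y.left)) := (VarDim.resHom Y.hom _).toAlgebra
  letI : Algebra k X.left.functionField := (cst X _).hom.toAlgebra
  letI : Algebra k Y.left.functionField := (cst Y _).hom.toAlgebra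
  let eX : X.left.functionField ≃ₐ[k] X.left.residueField (genericPoint X.left) :=
    AlgEquiv.ofBijective (A₁ := X.left.functionField) { (X.left.residue (genericPoint X.left)).hom with
      commutes' := fun c => (RingHom.congr_fun (resHom_eq (genericPoint X.left)) c).symm }
      ⟨RingHom.injective (R := X.left.functionField) (X.left.residue _).hom, residue_surjective⟩
  let eY : Y.left.functionField ≃ₐ[k] Y.left.residueField (genericPoint Y.left) :=
    AlgEquiv.ofBijective (A₁ := Y.left.functionField) { (Y.left.residue (genericPoint Y.left)).hom with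
      commutes' := fun c => (RingHom.congr_fun (resHom_eq (genericPoint Y.left)) c).symm }
      ⟨RingHom.injective (R := Y.left.functionField) (Y.left.residue _).hom, residue_surjective⟩
  let e : X.left.functionField ≃ₐ[k] Y.left.functionField :=
    AlgEquiv.ofBijective (A₁ := X.left.functionField) { (hm io.inv).hom with
      commutes' := fun c => RingHom.congr_fun (congrArg CommRingCat.Hom.hom (cst_hm io.inv)) c }
      ⟨fun a b h => by
        have h' : (hm io.inv).hom a = (hm io.inv).hom b := h
        have := congrArg (hm io.hom).hom h'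
        rw [hm_iso_inv, hm_iso_inv] at this
        exact this, fun b => ⟨(hm io.hom).hom b, hm_iso_hom io b⟩⟩
  exact ((eX.symm.trans e).trans eY).trdeg_eq

theorem trdeg_functionField [IsIntegral X.left] [LocallyOfFiniteType X.hom] :
    letI := (cst X (genericPoint X.left)).hom.toAlgebra
    Algebra.trdeg k X.left.functionField = (VarDim.deg X.hom (genericPoint X.left) : Cardinal.{u}) := by
  letI : Algebra k X.left.functionField := (cst X _).hom.toAlgebra
  letI : Algebra k (X.left.residueField (genericPoint X.left)) := (VarDim.resHom X.hom _).toAlgebra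
  let eX : X.left.functionField ≃ₐ[k] X.left.residueField (genericPoint X.left) :=
    AlgEquiv.ofBijective (A₁ := X.left.functionField) { (X.left.residue (genericPoint X.left)).hom with
      commutes' := fun c => (RingHom.congr_fun (resHom_eq (genericPoint X.left)) c).symm }
      ⟨RingHom.injective (R := X.left.functionField) (X.left.residue _).hom, residue_surjective⟩
  rw [VarDim.deg_eq_tdeg]
  exact eX.trdeg_eq

variable [IsAlgClosed k] {G : Over (Spec (CommRingCat.of k))} [IsIntegral G.left] [LocallyOfFiniteType G.hom]

/-- An affine normal model in a valuation ring, with given elements regular on it. -/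
theorem exists_model (V : ValuationSubring G.left.functionField)
    (hk : ∀ a, (cst G (genericPoint G.left)).hom a ∈ V) (S : Finset G.left.functionField) (hS : ∀ s ∈ S, s ∈ V) :
    ∃ (X : Over (Spec (CommRingCat.of k))) (_ : IsIntegral X.left) (_ : IsAffine X.left)
      (_ : LocallyOfFiniteType X.hom) (io : gen X ≅ gen G),
      (∀ x, IsIntegrallyClosed (X.left.presheaf.stalk x)) ∧
      (∀ s ∈ S, ∃ a : Γ(X.left, ⊤), (X.left.presheaf.germ ⊤ (genericPoint X.left) trivial).hom a = (hm io.hom).hom s) ∧
      ∀ a : Γ(X.left, ⊤), (hm io.inv).hom ((X.left.presheaf.germ ⊤ (genericPoint X.left) trivial).hom a) ∈ V := by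
  classical
  obtain ⟨_, ⟨U, hU, rfl⟩, hgU, -⟩ :=
    G.left.isBasis_affineOpens.exists_subset_of_mem_open (Set.mem_univ (genericPoint G.left)) isOpen_univ
  haveI : Nonempty (U : Scheme.{u}) := ⟨⟨_, hgU⟩⟩
  obtain ⟨_, hft⟩ := VarDim.exists_algebra G.hom hU
  letI algU : Algebra k Γ(G.left, U) :=
    ((G.hom.appLE ⊤ U (by simp)).hom.comp (Scheme.ΓSpecIso (CommRingCat.of k)).inv.hom).toAlgebra
  letI : Algebra k G.left.functionField := (cst G (genericPoint G.left)).hom.toAlgebra
  haveI hft : Algebra.FiniteType k Γ(G.left, U) := by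
    refine RingHom.finiteType_algebraMap.1 ?_
    show ((G.hom.appLE ⊤ U (by simp)).hom.comp (Scheme.ΓSpecIso (CommRingCat.of k)).inv.hom).FiniteType
    exact (G.hom.finiteType_appLE (isAffineOpen_top _) hU (by simp)).comp (RingHom.FiniteType.of_surjective _
      (Scheme.ΓSpecIso (CommRingCat.of k)).symm.commRingCatIsoToRingEquiv.surjective)
  haveI := functionField_isFractionRing_of_isAffineOpen G.left U hU
  let jU : Γ(G.left, U) →ₐ[k] G.left.functionField :=
    { (G.left.presheaf.germ U (genericPoint G.left) hgU).hom with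
      commutes' := fun c => by
        show (G.left.presheaf.germ U _ hgU).hom ((G.hom.appLE ⊤ U _).hom _) = (cst G _).hom c
        rw [cst_eq_baseMap, Scheme.Hom.appLE, CommRingCat.comp_apply, TopCat.Presheaf.germ_res_apply]
        rfl }
  obtain ⟨s₀, hs₀⟩ := hft.out
  have hV : ∀ x : G.left.functionField, ∃ y, y ∈ V ∧ (y = x ∨ y = x⁻¹) := fun x => (V.mem_or_inv_mem x).elim
    (fun h => ⟨x, h, .inl rfl⟩) fun h => ⟨x⁻¹, h, .inr rfl⟩
  choose y hy hy' using hV
  let T : Finset G.left.functionField := S ∪ (s₀.image fun s => y (jU s))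
  let A₀ : Subalgebra k G.left.functionField := Algebra.adjoin k (T : Set G.left.functionField)
  have hA₀V : ∀ a ∈ A₀, a ∈ V := fun a ha => by
    induction ha using Algebra.adjoin_induction with
    | mem x hx =>
      rcases Finset.mem_union.mp hx with hx | hx
      · exact hS x hx
      · obtain ⟨s, -, rfl⟩ := Finset.mem_image.mp hx
        exact hy _
    | algebraMap r => exact hk r
    | add a b _ _ ha hb => exact V.toSubring.add_mem ha hb
    | mul a b _ _ ha hb => exact V.toSubring.mul_mem ha hb
  haveI : Algebra.FiniteType k A₀ := (Subalgebra.fg_iff_finiteType A₀).1 ⟨T, rfl⟩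
  let F : IntermediateField k G.left.functionField := IntermediateField.adjoin k (A₀ : Set G.left.functionField)
  have hz : ∀ z : Γ(G.left, U), jU z ∈ F := fun z => by
    have hz : z ∈ Algebra.adjoin k (s₀ : Set Γ(G.left, U)) := hs₀ ▸ Algebra.mem_top
    induction hz using Algebra.adjoin_induction with
    | mem w hw =>
      have hw' : y (jU w) ∈ F := IntermediateField.subset_adjoin _ _
        (Algebra.subset_adjoin (Finset.mem_union_right _ (Finset.mem_image_of_mem _ hw)))
      rcases hy' (jU w) with h | h
      · rwa [h] at hw'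
      · rw [h] at hw'
        exact inv_inv (jU w) ▸ F.inv_mem hw'
    | algebraMap r => rw [jU.commutes]; exact F.algebraMap_mem r
    | add a b _ _ ha hb => rw [map_add]; exact F.add_mem ha hb
    | mul a b _ _ ha hb => rw [map_mul]; exact F.mul_mem ha hb
  haveI : IsFractionRing A₀ G.left.functionField := H23.RatModel.isFractionRing_of_forall A₀ fun x => by
    have hx : x ∈ F := by
      obtain ⟨a, b, -, e⟩ := IsFractionRing.div_surjective (A := Γ(G.left, U)) x
      rw [← e]
      exact F.div_mem (hz a) (hz b)
    obtain ⟨r, hr, s', hs', e⟩ := IntermediateField.mem_adjoin_iff_div.1 hx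
    rw [Algebra.adjoin_eq] at hr hs'
    by_cases h0 : s' = 0
    · exact ⟨0, 1, one_ne_zero, by simp [e, h0]⟩
    exact ⟨⟨r, hr⟩, ⟨s', hs'⟩, fun h => h0 (congrArg Subtype.val h),
      by show x * s' = r; rw [e, div_mul_cancel₀ r h0]⟩
  let A₁' : Subalgebra A₀ G.left.functionField := integralClosure A₀ G.left.functionField
  haveI : Module.Finite A₀ A₁' := by
    have hN := NagataLib.isN2_of_finiteType k A₀
    letI : Algebra (FractionRing A₀) G.left.functionField := FractionRing.liftAlgebra A₀ G.left.functionField
    haveI : IsScalarTower A₀ (FractionRing A₀) G.left.functionField :=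
      FractionRing.isScalarTower_liftAlgebra A₀ G.left.functionField
    refine hN G.left.functionField
      (Module.Finite.of_surjective (Algebra.linearMap (FractionRing A₀) G.left.functionField) fun x => ?_)
    obtain ⟨a, b, hb, e⟩ := IsFractionRing.div_surjective (A := A₀) x
    refine ⟨algebraMap A₀ _ a / algebraMap A₀ _ b, ?_⟩
    rw [Algebra.linearMap_apply, map_div₀, ← IsScalarTower.algebraMap_apply,
      ← IsScalarTower.algebraMap_apply, e]
  let A₁ : Subalgebra k G.left.functionField := A₁'.restrictScalars k
  haveI : IsScalarTower k A₀ A₁' := IsScalarTower.of_algebraMap_eq fun _ => rfl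
  have hft' : Algebra.FiniteType k A₁' := Algebra.FiniteType.trans (S := A₀) inferInstance inferInstance
  have hft1 : Algebra.FiniteType k A₁ := hft'
  haveI : IsFractionRing A₁ G.left.functionField := H23.RatModel.isFractionRing_of_forall A₁ fun x => by
    obtain ⟨a, b, hb, e⟩ := H23.RatModel.exists_div (C := A₀) x
    exact ⟨⟨a, A₁'.algebraMap_mem a⟩, ⟨b, A₁'.algebraMap_mem b⟩,
      fun h => hb (Subtype.ext (congrArg Subtype.val h :)), e⟩
  haveI hic : IsIntegrallyClosed A₁ := (isIntegrallyClosed_iff G.left.functionField).2 fun {x} hx => by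
    have hx' : IsIntegral A₁' x := hx
    exact ⟨⟨x, isIntegral_trans (R := A₀) x hx'⟩, rfl⟩
  have hA₁V : ∀ a : A₁, (a : G.left.functionField) ∈ V := fun a => by
    let j : A₀ →+* V := (algebraMap A₀ G.left.functionField).codRestrict V.toSubring fun a => hA₀V a a.2
    have : IsIntegral V (a : G.left.functionField) := by
      obtain ⟨p, hp, hpc⟩ := (show IsIntegral A₀ (a : G.left.functionField) from a.2)
      exact ⟨p.map j, hp.map j, by rw [Polynomial.eval₂_map]; exact hpc⟩
    obtain ⟨v, hv⟩ := IsIntegrallyClosed.algebraMap_eq_of_integral (K := G.left.functionField) this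
    rw [← hv]
    exact v.2
  -- the scheme
  let R := CommRingCat.of A₁
  let X : Over (Spec (CommRingCat.of k)) := Over.mk (Spec.map (CommRingCat.ofHom (algebraMap k A₁)))
  haveI hXi : IsIntegral X.left := inferInstanceAs (IsIntegral (Spec R))
  haveI : LocallyOfFiniteType X.hom :=
    (HasRingHomProperty.Spec_iff (P := @LocallyOfFiniteType)).mpr (RingHom.finiteType_algebraMap.mpr hft1)
  haveI hXaff : IsAffine X.left := inferInstanceAs (IsAffine (Spec R))
  let σ : Γ(X.left, ⊤) ≅ R := Scheme.ΓSpecIso R
  haveI : Nonempty ((⊤ : X.left.Opens) : Scheme.{u}) := ⟨⟨genericPoint X.left, trivial⟩⟩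
  haveI := functionField_isFractionRing_of_isAffineOpen X.left ⊤ (isAffineOpen_top _)
  letI algR : Algebra R X.left.functionField :=
    ((algebraMap Γ(X.left, ⊤) X.left.functionField).comp σ.commRingCatIsoToRingEquiv.symm.toRingHom).toAlgebra
  haveI : IsFractionRing R X.left.functionField :=
    (IsFractionRing.isFractionRing_iff_of_base_ringEquiv (R := Γ(X.left, ⊤)) (S := X.left.functionField)
      σ.commRingCatIsoToRingEquiv).mp inferInstance
  let e : G.left.functionField ≃+* X.left.functionField :=
    (IsLocalization.algEquiv (nonZeroDivisors R) G.left.functionField X.left.functionField).toRingEquiv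
  have he : ∀ a : A₁, e (a : G.left.functionField) =
      (X.left.presheaf.germ ⊤ (genericPoint X.left) trivial).hom (σ.inv.hom a) := fun a =>
    (IsLocalization.algEquiv (nonZeroDivisors R) G.left.functionField X.left.functionField).commutes a
  let ec : G.left.functionField ≅ X.left.functionField := e.toCommRingCatIso
  have hc : cst G (genericPoint G.left) ≫ ec.hom = cst X (genericPoint X.left) := by
    ext c
    show e ((algebraMap k A₁ c : A₁) : G.left.functionField) = _
    rw [he, cst_eq_baseMap]
    show _ = (X.left.presheaf.germ ⊤ _ trivial).hom ((VarDim.baseMap X.hom) c)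
    congr 1
    exact (RingHom.congr_fun (congrArg CommRingCat.Hom.hom
      (Scheme.ΓSpecIso_inv_naturality (CommRingCat.ofHom (algebraMap k A₁)))) c)
  let io : gen X ≅ gen G := Over.isoMk (Scheme.Spec.mapIso ec.op) (by
    show Spec.map ec.hom ≫ (spO G _).hom = (spO X _).hom
    rw [← Spec.map_preimage (spO G (genericPoint G.left)).hom, ← Spec.map_preimage (spO X (genericPoint X.left)).hom,
      ← Spec.map_comp]
    exact congrArg Spec.map hc)
  have hio : hm io.hom = ec.hom := Spec.map_injective (by rw [map_hm]; rfl)
  have hio' : hm io.inv = ec.inv := Spec.map_injective (by rw [map_hm]; rfl)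
  refine ⟨X, hXi, hXaff, inferInstance, io, fun x => ?_, fun s hs => ?_, fun a => ?_⟩
  · haveI : IsIntegrallyClosed Γ(X.left, ⊤) := IsIntegrallyClosed.of_equiv σ.commRingCatIsoToRingEquiv.symm
    obtain ⟨p, rfl⟩ := VarDim.exists_fromSpec_eq (isAffineOpen_top X.left) (x := x) trivial
    letI := TopCat.Presheaf.algebra_section_stalk X.left.presheaf (U := ⊤) ⟨(isAffineOpen_top X.left).fromSpec p, trivial⟩
    haveI := (isAffineOpen_top X.left).isLocalization_stalk' p trivial
    exact isIntegrallyClosed_of_isLocalization _ p.asIdeal.primeCompl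
      p.asIdeal.primeCompl_le_nonZeroDivisors
  · refine ⟨σ.inv.hom (⟨s, A₁'.algebraMap_mem ⟨s, Algebra.subset_adjoin (Finset.mem_union_left _ hs)⟩⟩ : A₁), ?_⟩
    rw [hio, ← he]; rfl
  · obtain ⟨b, rfl⟩ := σ.symm.commRingCatIsoToRingEquiv.surjective a
    rw [hio']
    show e.symm ((X.left.presheaf.germ ⊤ _ trivial).hom (σ.inv.hom b)) ∈ V
    rw [← he, e.symm_apply_apply]
    exact hA₁V b

end Groth.Agent.AGFLib.Rosen
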